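import Cfsg.Agent.Fusion.NormalFamily.Levels
import Cfsg.Agent.Fusion.Criterion.Main

/-!
The fusion system of a normal family: it is saturated, weakly normal, and has the given
automorphism groups on the members.
-/

set_option autoImplicit false
set_option linter.unusedSectionVars false
set_option linter.style.haveILetI false

namespace Cfsg.Lib.Fusion.NFam

open Cfsg Cfsg.FusionSystem Cfsg.Lib.Fusion

universe u

variable {Ω : Type u} [Group Ω] {S T : Subgroup Ω} {F : FusionSystem S} {p : ℕ}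
  {ℋ : Set (Subgroup Ω)} {X : ∀ Q : Subgroup Ω, Subgroup (MulAut Q)}

variable [Finite S]

theorem Gen.isMap_toFun' (hX : Fam F T p ℋ X) {P : Subgroup Ω} {φ : P →* Ω}
    (h : Gen ℋ X P (toFun' φ)) : φ ∈ F.Hom P :=
  (h.isMap hX).1.mem_toFun'

/-- The system of the generated maps. -/
def famSystem (hX : Fam F T p ℋ X) : FusionSystem T where
  Hom P := {φ | Gen ℋ X P (toFun' φ)}
  le_of_mem {P φ} h := ⟨(h.isMap hX).2, fun x => by
    rw [← toFun'_apply φ x]
    exact hX.apply_mem (h.isMap hX).1 (h.isMap hX).2 x.2⟩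
  injective_of_mem h := F.injective_of_mem (Gen.isMap_toFun' hX h)
  conj_mem {P g} hP hg := (Gen.conj hX hP hg).congr fun x hx => by
    rw [toFun'_apply_mem _ hx]; rfl
  comp_mem {P Q φ ψ} hφ hψ h := by
    refine .comp hφ hψ (fun x hx => ?_) fun x hx => ?_
    · rw [toFun'_apply_mem _ hx]; exact h ⟨x, hx⟩
    · rw [toFun'_apply_mem _ hx, toFun'_apply_mem φ hx, toFun'_apply_mem ψ (h ⟨x, hx⟩)]
      rfl
  inv_mem {P φ} h := by
    obtain ⟨k, hk, ek⟩ := Gen.inv hX h
    have hr : φ.range = img P (toFun' φ) :=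
      (h.isMap hX).1.range_eq fun x => (toFun'_apply φ x).symm
    have hkm : IsMap F φ.range k := hr.symm ▸ (hk.isMap hX).1
    obtain ⟨ψ, -, e⟩ := hkm
    refine ⟨ψ, (hr.symm ▸ hk : Gen ℋ X φ.range k).congr fun y hy => ?_, fun x => ?_⟩
    · rw [toFun'_apply_mem _ hy]; exact e ⟨y, hy⟩
    · rw [e]
      show k (φ x) = (x : Ω)
      rw [← toFun'_apply φ x]
      exact ek x x.2

theorem isMap_fam_iff (hX : Fam F T p ℋ X) {P : Subgroup Ω} {f : Ω → Ω} :
    IsMap (famSystem hX) P f ↔ Gen ℋ X P f := by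
  constructor
  · rintro ⟨φ, hφ, e⟩
    exact (hφ : Gen ℋ X P (toFun' φ)).congr fun x hx => by
      rw [toFun'_apply_mem φ hx, e ⟨x, hx⟩]
  · intro h
    obtain ⟨φ, -, e⟩ := (h.isMap hX).1
    exact ⟨φ, h.congr fun x hx => by rw [toFun'_apply_mem φ hx]; exact e ⟨x, hx⟩, e⟩

theorem fam_le (hX : Fam F T p ℋ X) : (famSystem hX).IsSubsystemOf F :=
  fun _ _ h => Gen.isMap_toFun' hX h

theorem fam_base (hX : Fam F T p ℋ X) {Q : Subgroup Ω} (hQ : Q ∈ ℋ) {β : MulAut Q}
    (hβ : β ∈ X Q) : IsMap (famSystem hX) Q (autFun β) :=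
  (isMap_fam_iff hX).mpr (.base hQ hβ le_rfl fun _ _ => rfl)

variable [Fact p.Prime]

/-- The automorphism groups on the members are those of the family. -/
theorem fam_autGroup (hS : IsPGroup p S) (hF : F.IsSaturated p) (hX : Fam F T p ℋ X)
    {Q : Subgroup Ω} (hQ : Q ∈ ℋ) : (famSystem hX).autGroup Q = X Q := by
  ext β
  rw [← isMap_autFun (hX.sub Q hQ), isMap_fam_iff]
  exact ⟨fun h => mem_of_gen hS hF hX hQ h, fun h => .base hQ h le_rfl fun _ _ => rfl⟩

/-- A labelled map onto a fully normalized member extends with the same label. -/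
theorem lab_extend (hS : IsPGroup p S) (hF : F.IsSaturated p) (hX : Fam F T p ℋ X)
    {Q R : Subgroup Ω} (hQ : Q ∈ ℋ) (hn : F.IsFullyNormalized Q) {f : Ω → Ω} {α : MulAut T}
    (hf : Lab F T ℋ X R f α) (hi : img R f = Q) :
    ∃ g, Lab F T ℋ X (extSub T R f) g α ∧ ∀ x ∈ R, g x = f x := by
  have hQT := hX.sub Q hQ
  haveI := finite_of_le hX.le_S
  haveI := finite_of_le hQT
  have hfm := hf.isMap hX
  have hRT := hf.le hX
  obtain ⟨-, -, hrec⟩ := fullyNormalized_props hS hF hn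
  obtain ⟨g₀, hg₀, eg₀⟩ := receptive_extend hrec hfm hi
  have hle : extSub T R f ≤ extSub S R f := fun t ⟨ht, htn, h, hh, e⟩ =>
    ⟨hX.le_S ht, htn, h, hX.le_S hh, e⟩
  have hg := hg₀.mono hle
  have hET : extSub T R f ≤ T := fun t ht => ht.1
  have hRE : R ≤ extSub T R f := fun t ht => ⟨hRT ht, Subgroup.le_normalizer ht, f t,
    hX.apply_mem hfm hRT ht, fun x hx => hfm.map_conj ht hx⟩
  obtain ⟨c, hc⟩ := exists_lab hS hF hX hET hg
  have hu := Lab.unique hX hf ((hc.mono hRE).congr fun x hx => (eg₀ x hx).symm)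
  rw [hi] at hu
  obtain ⟨e, he, ee⟩ := inW_of_agree hS hF hX hQ hn le_rfl (le_normalizerIn hQT) hu
    (one_mem _) fun z hz => (autFun_one hz).symm
  have hgN : ∀ t ∈ extSub T R f, g₀ t ∈ normalizerIn T Q := fun t ht => by
    have h1 := hg.mem_normalizerIn (P := R) hRE ht ht.2.1
    rw [(img_congr eg₀).trans hi] at h1
    exact ⟨hX.apply_mem hg hET ht, h1.2⟩
  obtain ⟨k, -, -, hkl, -⟩ := (he.isMap hX).exists_inv
  have hk := he.inv hX hkl
  rw [img_normalizer hX hQT (he.isMap hX) fun z hz => (ee z hz).symm ▸ hz] at hk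
  refine ⟨k ∘ g₀, ?_, fun x hx => ?_⟩
  · convert Lab.comp hX hc hk hgN using 1
    group
  · show k (g₀ x) = f x
    rw [eg₀ x hx]
    have hfx : f x ∈ Q := hi ▸ IsMap.apply_mem_img hx
    conv_lhs => rw [← ee _ hfx]
    exact hkl _ (le_normalizerIn hQT hfx)

/-- Every member is conjugate, by a generated map, to a translate of a fully normalized one. -/
theorem exists_translate (hS : IsPGroup p S) (hF : F.IsSaturated p) (hX : Fam F T p ℋ X)
    {P : Subgroup Ω} (hPT : P ≤ T) :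
    ∃ Q, F.IsFullyNormalized Q ∧ Q ≤ T ∧ F.IsConj P Q ∧ ∃ α ∈ F.autGroup T,
      (famSystem hX).IsConj P (img Q (autFun α⁻¹)) := by
  obtain ⟨Q, hPQ, hn⟩ := exists_fullyNormalized (F := F) (hPT.trans hX.le_S)
  obtain ⟨f, hf, hi⟩ := isConj_iff.mp hPQ
  obtain ⟨α, hα, g, hg, eg⟩ := exists_lab hS hF hX hPT hf
  have hgm := (hg.isMap hX).1
  have hQT : Q ≤ T := hi ▸ IsMap.img_le_iff.mpr fun x hx => hX.apply_mem hf hPT hx
  refine ⟨Q, hn, hQT, hPQ, α, hα, isConj_iff.mpr ⟨g, (isMap_fam_iff hX).mpr hg, ?_⟩⟩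
  have ha := (hX.top_map ((F.autGroup T).inv_mem hα)).mono hQT
  subst hi
  rw [← img_comp hf ha]
  refine img_congr fun x hx => ?_
  show g x = autFun α⁻¹ (f x)
  rw [eg x hx, autFun_inv_apply' α (hX.apply_mem hgm hPT hx)]

/-- A translate of a fully normalized member is fully automized and receptive. -/
theorem translate_props (hS : IsPGroup p S) (hF : F.IsSaturated p) (hX : Fam F T p ℋ X)
    {Q : Subgroup Ω} (hQ : Q ∈ ℋ) (hn : F.IsFullyNormalized Q) {α : MulAut T}
    (hα : α ∈ F.autGroup T) :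
    (famSystem hX).IsFullyAutomized p (img Q (autFun α⁻¹)) ∧
      (famSystem hX).IsReceptive (img Q (autFun α⁻¹)) := by
  have hQT := hX.sub Q hQ
  haveI := finite_of_le hX.le_S
  haveI := finite_of_le hQT
  have hTp : IsPGroup p T := hS.of_injective _ (Subgroup.inclusion_injective hX.le_S)
  have ha := hX.top_map ((F.autGroup T).inv_mem hα)
  have haQ := ha.mono hQT
  set P := img Q (autFun α⁻¹)
  have hP : P ∈ ℋ := hX.mem_conj hQ haQ
  have hPT := hX.sub P hP
  haveI := finite_of_le hPT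
  refine ⟨(isFullyAutomized_iff hTp).mpr ⟨hPT, ?_⟩, receptive_of_extend hPT fun R f hf hfi => ?_⟩
  · rw [fam_autGroup hS hF hX hP]
    obtain ⟨W, hW⟩ : ∃ W : Sylow p ((X Q).subgroupOf (F.autGroup Q)),
        (W : Subgroup ((X Q).subgroupOf (F.autGroup Q))).map
          ((X Q).subgroupOf (F.autGroup Q)).subtype =
          (autInducedBy T Q).subgroupOf (F.autGroup Q) := exists_sylow hS hF hX hQ hn
    haveI : Finite (MulAut Q) := NormCent.finite_mulAut Q
    haveI : Finite (MulAut P) := NormCent.finite_mulAut P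
    have hUX : autInducedBy T Q ≤ X Q := hX.ind Q hQ
    have hnd : ¬ p ∣ (autInducedBy T Q).relIndex (X Q) := by
      have h1 : ((autInducedBy T Q).subgroupOf (F.autGroup Q)).relIndex
          ((X Q).subgroupOf (F.autGroup Q)) = (autInducedBy T Q).relIndex (X Q) :=
        Subgroup.relIndex_subgroupOf (hX.le Q hQ)
      rw [← h1, ← hW, Subgroup.relIndex]
      have h2 : ((W : Subgroup ((X Q).subgroupOf (F.autGroup Q))).map
          ((X Q).subgroupOf (F.autGroup Q)).subtype).subgroupOf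
            ((X Q).subgroupOf (F.autGroup Q)) = W := by
        exact Subgroup.comap_map_eq_self_of_injective (Subgroup.subtype_injective _) _
      rw [h2]
      exact W.not_dvd_index
    set Φ := MulAut.congr (haQ.equiv (rfl : img Q (autFun α⁻¹) = P))
    have hXmap : (X Q).map Φ.toMonoidHom = X P := by
      refine le_antisymm ?_ fun γ hγ => ?_
      · rintro _ ⟨β, hβ, rfl⟩
        exact hX.equiv Q P _ haQ rfl hQ β hβ
      · obtain ⟨k, hk, hki, hkl, -⟩ := haQ.exists_inv
        refine ⟨MulAut.congr (hk.equiv hki) γ, hX.equiv P Q k hk hki hP γ hγ, ?_⟩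
        refine eq_of_autFun fun y hy => ?_
        obtain ⟨x, hx, rfl⟩ := haQ.mem_img.mp hy
        show autFun (Φ _) _ = _
        rw [congr_equiv_spec haQ rfl _ hx]
        have h3 := congr_equiv_spec hk hki γ hy
        rw [hkl x hx] at h3
        rw [h3]
        obtain ⟨z, hz, ez⟩ := haQ.mem_img.mp (autFun_mem γ hy)
        rw [← ez, hkl z hz]
    have hUmap : (autInducedBy T Q).map Φ.toMonoidHom ≤ autInducedBy T P := by
      rintro _ ⟨β, hβ, rfl⟩
      obtain ⟨t, ht, et⟩ := mem_autInducedBy.mp hβ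
      refine mem_autInducedBy.mpr ⟨autFun α⁻¹ t, autFun_mem _ ht, fun y => ?_⟩
      obtain ⟨x, hx, e⟩ := haQ.mem_img.mp y.2
      show ((Φ β y : P) : Ω) = _
      rw [← autFun_apply, ← e, congr_equiv_spec haQ rfl β hx, autFun_apply_mem β hx, et,
        ha.map_conj ht (hQT hx)]
    intro hd
    refine hnd ?_
    rw [← Subgroup.relIndex_map_map_of_injective (f := Φ.toMonoidHom) (autInducedBy T Q) (X Q)
      Φ.injective]
    rw [hXmap, ← Subgroup.relIndex_mul_relIndex _ _ _ hUmap (hX.ind P hP)]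
    exact dvd_mul_of_dvd_right hd _
  · have hg := (isMap_fam_iff hX).mp hf
    have hfm := (hg.isMap hX).1
    have hRT := (hg.isMap hX).2
    have hfT : ∀ x ∈ R, f x ∈ T := fun x hx => hX.apply_mem hfm hRT hx
    have h2 : Lab F T ℋ X R (autFun α ∘ f) α := by
      have := Lab.comp hX (Lab.of_gen hX hg) (Lab.of_aut hX le_rfl hα) hfT
      rwa [mul_one] at this
    have hi2 : img R (autFun α ∘ f) = Q := by
      have hm : IsMap F P (autFun α) := (hX.top_map hα).mono hPT
      rw [img_comp hfm (hfi.symm ▸ hm), hfi, ← img_comp haQ hm]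
      exact (img_congr fun x hx => autFun_inv_apply α (hQT hx)).trans (img_id Q)
    obtain ⟨g₁, hg₁, eg₁⟩ := lab_extend hS hF hX hQ hn h2 hi2
    have hle : extSub T R f ≤ extSub T R (autFun α ∘ f) := fun t ⟨ht, htn, h, hh, e⟩ =>
      ⟨ht, htn, autFun α h, autFun_mem α hh, fun x hx => by
        show autFun α (f (t * x * t⁻¹)) = _
        rw [e x hx, (hX.top_map hα).map_conj hh (hfT x hx)]
        rfl⟩
    have hg₁m := (hg₁.mono hle).isMap hX
    have hg₁T : ∀ t ∈ extSub T R f, g₁ t ∈ T := fun t ht => hX.apply_mem hg₁m (fun z hz => hz.1) ht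
    have h3 := Lab.comp hX (hg₁.mono hle)
      (Lab.of_aut hX le_rfl ((F.autGroup T).inv_mem hα)) hg₁T
    rw [inv_mul_cancel] at h3
    obtain ⟨-, g₂, hg₂, eg₂⟩ := h3
    refine ⟨autFun α⁻¹ ∘ g₁, (isMap_fam_iff hX).mpr (hg₂.congr fun t ht => ?_), fun x hx => ?_⟩
    · rw [eg₂ t ht]
      exact autFun_one (hX.apply_mem (hg₂.isMap hX).1 (hg₂.isMap hX).2 ht)
    · show autFun α⁻¹ (g₁ x) = f x
      rw [eg₁ x hx]
      exact autFun_inv_apply' α (hfT x hx)

/-- The system of a normal family is saturated. -/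
theorem fam_saturated (hS : IsPGroup p S) (hF : F.IsSaturated p) (hX : Fam F T p ℋ X) :
    (famSystem hX).IsSaturated p := by
  haveI := finite_of_le hX.le_S
  have hTp : IsPGroup p T := hS.of_injective _ (Subgroup.inclusion_injective hX.le_S)
  have hconj : ∀ {P R : Subgroup Ω}, (famSystem hX).IsConj P R → F.IsConj P R := fun h => by
    obtain ⟨f, hf, hi⟩ := isConj_iff.mp h
    exact isConj_iff.mpr ⟨f, isMap_of_sub (fam_le hX) hf, hi⟩
  refine Criterion.saturated_of_family (ℋ := ℋ) hTp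
    (fun P hP R hR => hX.conj P hP R (hconj hR)) (fun P hP => ?_) (fun E hE => ?_)
    (fun P hP hPℋ => ?_)
  · obtain ⟨Q, hn, hQT, hPQ, α, hα, hc⟩ := exists_translate hS hF hX (hX.sub P hP)
    exact ⟨_, hc, translate_props hS hF hX (hX.conj P hP Q hPQ) hn hα⟩
  · rw [le_iff_isMap]
    intro P f hf
    have hg := (isMap_fam_iff hX).mp hf
    clear hf
    induction hg with
    | @base Q P β f hQ hβ hP e =>
      obtain ⟨φ, hφ, eφ⟩ := fam_base hX hQ hβ
      exact (IsMap.mono (⟨φ, hE Q hQ hφ, eφ⟩ : IsMap E Q (autFun β)) hP).congr e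
    | comp h1 h2 hm e ih1 ih2 => exact (ih1.comp ih2 hm).congr e
  · obtain ⟨Q, hn, hQT, hPQ, α, hα, hc⟩ := exists_translate hS hF hX hP.1
    have hQℋ : Q ∉ ℋ := fun h => hPℋ (hX.conj Q h P (isConj_symm hPQ))
    obtain ⟨g, hg, hgQ, hgn, hgo⟩ := hX.rad Q hQT hn hQℋ
    haveI := finite_of_le hQT
    have ha := hX.top_map ((F.autGroup T).inv_mem hα)
    have haQ := ha.mono hQT
    set P' := img Q (autFun α⁻¹)
    have hP'T : P' ≤ T := IsMap.img_le_iff.mpr fun z hz => autFun_mem α⁻¹ (hQT hz)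
    haveI := finite_of_le hP'T
    refine ⟨P', hc, fun hle => ?_⟩
    set g' := autFun α⁻¹ g
    have hg'n : g' ∈ Subgroup.normalizer (P' : Set Ω) :=
      (ha.mem_normalizerIn hQT hg.1 hgn).2
    have hg'T : g' ∈ T := autFun_mem _ hg.1
    have e1 : conjAut P' g' hg'n = MulAut.congr (haQ.equiv rfl) (conjAut Q g hgn) :=
      eq_of_autFun fun y hy => by
        obtain ⟨x, hx, rfl⟩ := haQ.mem_img.mp hy
        rw [congr_equiv_spec haQ rfl _ hx, autFun_apply_mem _ hy, conjAut_apply,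
          autFun_apply_mem (conjAut Q g hgn) hx, conjAut_apply]
        exact (ha.map_conj hg.1 (hQT hx)).symm
    have hmem : conjAut P' g' hg'n ∈ autInducedBy T P' := conjAut_mem_autInducedBy hg'n hg'T
    have hop : conjAut P' g' hg'n ∈ Criterion.opAut (famSystem hX) p P' := by
      refine Criterion.le_opAut (K := Criterion.opAut F p P' ⊓ (famSystem hX).autGroup P')
        inf_le_right ((Criterion.isPGroup_opAut (hP'T.trans hX.le_S)).to_le inf_le_left)
        (fun β hβ γ hγ => ⟨?_, mul_mem (mul_mem hβ hγ.2) (Subgroup.inv_mem _ hβ)⟩)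
        ⟨?_, autInducedBy_le hP'T hmem⟩
      · exact Criterion.opAut_normal (hP'T.trans hX.le_S) ((isMap_autFun (hP'T.trans hX.le_S)).mp
          (isMap_of_sub (fam_le hX) ((isMap_autFun hP'T).mpr hβ))) hγ.1
      · rw [e1]
        exact Criterion.congr_opAut haQ rfl hgo
    obtain ⟨q, hq⟩ := hle ⟨hmem, hop⟩
    have hcent : centralizerIn T P' ≤ P' :=
      (centric_of_isConj hP hc).2 P' (isConj_refl hP'T)
    have hz : (q : Ω)⁻¹ * g' ∈ centralizerIn T P' := Fusion.mem_centralizerIn.mpr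
      ⟨T.mul_mem (T.inv_mem (hP'T q.2)) hg'T, fun z hz => by
        have h1 := congrArg (fun β : MulAut P' => ((β ⟨z, hz⟩ : P') : Ω)) hq
        simp only [conjAut_apply, MulAut.conj_apply, Subgroup.coe_mul, Subgroup.coe_inv] at h1
        calc (q : Ω)⁻¹ * g' * z * ((q : Ω)⁻¹ * g')⁻¹ = (q : Ω)⁻¹ * (g' * z * g'⁻¹) * q := by group
          _ = z := by rw [← h1]; group⟩
    have hg' : g' ∈ P' := by
      have := P'.mul_mem q.2 (hcent hz)
      rwa [mul_inv_cancel_left] at this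
    obtain ⟨x, hx, ex⟩ := haQ.mem_img.mp hg'
    exact hgQ (ha.injOn (hQT hx) hg.1 ex ▸ hx)

/-- The system of a normal family is weakly normal. -/
theorem fam_weaklyNormal (hS : IsPGroup p S) (hF : F.IsSaturated p) (hX : Fam F T p ℋ X) :
    (famSystem hX).IsWeaklyNormalIn F p := by
  refine ⟨fam_saturated hS hF hX, hF, fam_le hX, hX.sc, fun P hPT φ hφ α hα => ?_,
    fun P hP φ hφ => ?_⟩
  · have ha := (hX.top_map hα).mono hPT
    have himg : img P (autFun α) = (P.subgroupOf T).map (T.subtype.comp α.toMonoidHom) := by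
      refine le_antisymm (IsMap.img_le_iff.mpr fun x hx => ?_) ?_
      · rw [autFun_apply_mem _ (hPT hx)]
        exact ⟨⟨x, hPT hx⟩, hx, rfl⟩
      · rintro _ ⟨x, hx, rfl⟩
        rw [show T.subtype.comp α.toMonoidHom x = autFun α x from (autFun_apply α x).symm]
        exact IsMap.apply_mem_img hx
    have hm := (isMap_fam_iff hX).mpr (Gen.transport hX hα (hφ : Gen ℋ X P (toFun' φ)))
    obtain ⟨χ, hχ, e⟩ := hm
    rw [← himg]
    refine ⟨χ, hχ, fun x hφx hαx => ?_⟩
    rw [e]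
    show autFun α (toFun' φ (autFun α⁻¹ ((α ⟨x, hPT x.2⟩ : T) : Ω))) = _
    rw [← autFun_apply α ⟨x, hPT x.2⟩, autFun_inv_apply' α (hPT x.2), toFun'_apply φ x]
    exact autFun_apply α ⟨φ x, hφx⟩
  · obtain ⟨α, hα, g, hg, e⟩ := exists_lab hS hF hX hP (isMap_of_mem hφ)
    obtain ⟨φ₀, hφ₀, e₀⟩ := (isMap_fam_iff hX).mpr hg
    refine ⟨α, hα, φ₀, hφ₀, fun x hx => ?_⟩
    rw [← toFun'_apply φ x, e x x.2, ← e₀ x]
    exact autFun_apply α ⟨φ₀ x, hx⟩

end Cfsg.Lib.Fusion.NFam
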