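import Cfsg.Agent.Fusion.NormalFamily.Basic

/-!
Normal families: the Frattini decomposition of the maps on subgroups of the strongly closed
subgroup.
-/

set_option autoImplicit false
set_option linter.unusedSectionVars false
set_option linter.style.haveILetI false

namespace Cfsg.Lib.Fusion.NFam

open Cfsg Cfsg.FusionSystem Cfsg.Lib.Fusion

universe u

variable {Ω : Type u} [Group Ω] {S T : Subgroup Ω} {F : FusionSystem S} {p : ℕ}
  {ℋ : Set (Subgroup Ω)} {X : ∀ Q : Subgroup Ω, Subgroup (MulAut Q)} {Q : Subgroup Ω}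

theorem eq_of_autFun {α β : MulAut Q} (h : ∀ x ∈ Q, autFun α x = autFun β x) : α = β :=
  MulEquiv.ext fun x => Subtype.ext (by rw [← autFun_apply α x, ← autFun_apply β x, h x x.2])

theorem congr_aut {μ β : MulAut Q} (h : IsMap F Q (autFun μ)) :
    MulAut.congr (h.equiv (img_autFun μ)) β = μ * β * μ⁻¹ :=
  eq_of_autFun fun x hx => by
    have hx' := autFun_mem μ⁻¹ hx
    conv_lhs => rw [← autFun_inv_apply μ hx, congr_equiv_spec h (img_autFun μ) β hx']
    rw [autFun_mul _ _ hx, autFun_mul _ _ hx']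

theorem Fam.normal (hX : Fam F T p ℋ X) (hQ : Q ∈ ℋ) {μ β : MulAut Q} (hμ : μ ∈ F.autGroup Q)
    (hβ : β ∈ X Q) : μ * β * μ⁻¹ ∈ X Q := by
  have h := (isMap_autFun ((hX.sub Q hQ).trans hX.le_S)).mpr hμ
  exact congr_aut (β := β) h ▸ hX.equiv Q Q _ h (img_autFun μ) hQ β hβ

variable [Finite S] [Fact p.Prime]

/-- The induced automorphisms are a Sylow subgroup of the family at a fully normalized member. -/
theorem exists_sylow (hS : IsPGroup p S) (hF : F.IsSaturated p) (hX : Fam F T p ℋ X) (hQ : Q ∈ ℋ)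
    (hn : F.IsFullyNormalized Q) :
    ∃ W : Sylow p ((X Q).subgroupOf (F.autGroup Q)),
      (W : Subgroup _).map ((X Q).subgroupOf (F.autGroup Q)).subtype =
        (autInducedBy T Q).subgroupOf (F.autGroup Q) := by
  set G := F.autGroup Q
  set N := (X Q).subgroupOf G
  haveI : N.Normal := ⟨fun b hb a => hX.normal hQ a.2 hb⟩
  haveI := finite_of_le hn.1
  haveI : Finite (MulAut Q) := Finite.of_injective
    (fun f : MulAut Q => (f : Q → Q)) DFunLike.coe_injective
  obtain ⟨-, V, hV⟩ := (fullyNormalized_props hS hF hn).2.1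
  set U := (autInducedBy T Q).subgroupOf G
  have hUN : U ≤ N := fun x hx => hX.ind Q hQ hx
  have hUeq : (V : Subgroup G) ⊓ N = U := by
    refine le_antisymm (fun x hx => hX.syl Q hQ hn ⟨hx.2, ?_⟩) (le_inf (fun x hx => ?_) hUN)
    · have := hx.1
      rw [hV] at this
      exact this
    · rw [hV]
      exact autInducedBy_mono hX.le_S hx
  set U₀ : Subgroup N := U.subgroupOf N
  have hU₀p : IsPGroup p U₀ := by
    have h1 : IsPGroup p U :=
      V.2.to_le (hUeq.ge.trans inf_le_left)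
    exact h1.comap_of_injective _ (Subgroup.subtype_injective _)
  obtain ⟨W, hW⟩ := hU₀p.exists_le_sylow
  obtain ⟨V', hV'⟩ := (W.2.map N.subtype).exists_le_sylow
  obtain ⟨g, hg⟩ := MulAction.exists_smul_eq G V' V
  have hmem : ∀ w : (W : Subgroup N), g * ((w : N) : G) * g⁻¹ ∈ U := fun w => by
    rw [← hUeq]
    exact ⟨hg ▸ ⟨((w : N) : G), hV' ⟨w, w.2, rfl⟩, rfl⟩,
      Subgroup.Normal.conj_mem inferInstance _ (w : N).2 g⟩
  have hcard : Nat.card (W : Subgroup N) ≤ Nat.card U₀ :=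
    Nat.card_le_card_of_injective (fun w => (⟨⟨_, hUN (hmem w)⟩, hmem w⟩ : U₀))
      fun v w e => Subtype.ext (Subtype.ext (mul_left_cancel (mul_right_cancel
        (congrArg (fun z : U₀ => ((z : N) : G)) e))))
  refine ⟨W, ?_⟩
  rw [← Subgroup.eq_of_le_of_card_ge hW hcard, Subgroup.subgroupOf_map_subtype,
    inf_eq_left.mpr hUN]

/-- Every automorphism is a member of the family times one normalizing the induced ones. -/
theorem exists_split (hS : IsPGroup p S) (hF : F.IsSaturated p) (hX : Fam F T p ℋ X) (hQ : Q ∈ ℋ)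
    (hn : F.IsFullyNormalized Q) {μ : MulAut Q} (hμ : μ ∈ F.autGroup Q) :
    ∃ x ∈ X Q, ∃ ν ∈ F.autGroup Q, μ = x * ν ∧
      ∀ t ∈ autInducedBy T Q, ν * t * ν⁻¹ ∈ autInducedBy T Q := by
  set G := F.autGroup Q
  set N := (X Q).subgroupOf G
  obtain ⟨W, hW⟩ : ∃ W : Sylow p N, (W : Subgroup N).map N.subtype =
      (autInducedBy T Q).subgroupOf G := exists_sylow hS hF hX hQ hn
  haveI : N.Normal := ⟨fun b hb a => hX.normal hQ a.2 hb⟩
  haveI := finite_of_le hn.1
  haveI : Finite (MulAut Q) := Finite.of_injective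
    (fun f : MulAut Q => (f : Q → Q)) DFunLike.coe_injective
  have htop := Sylow.normalizer_sup_eq_top W
  rw [hW, sup_comm] at htop
  obtain ⟨x, hx, ν, hν, e⟩ := Subgroup.mem_sup_of_normal_left.mp
    (htop.ge (Subgroup.mem_top (⟨μ, hμ⟩ : G)))
  refine ⟨x, hx, ν, ν.2, (congrArg Subtype.val e).symm, fun t ht => ?_⟩
  have htG : t ∈ G := autInducedBy_le hn.1 (autInducedBy_mono hX.le_S ht)
  exact ((Subgroup.mem_normalizer_iff.mp hν) ⟨t, htG⟩).mp ht

/-- An automorphism normalizing the induced ones extends to the normalizer in `T`. -/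
theorem extend_split (hS : IsPGroup p S) (hF : F.IsSaturated p) (hT : F.StronglyClosed T)
    (hQT : Q ≤ T) (hn : F.IsFullyNormalized Q) {ν : MulAut Q} (hν : ν ∈ F.autGroup Q)
    (hnorm : ∀ t ∈ autInducedBy T Q, ν * t * ν⁻¹ ∈ autInducedBy T Q) :
    ∃ h, IsMap F (normalizerIn T Q) h ∧ (∀ x ∈ Q, h x = autFun ν x) ∧
      ∀ x ∈ normalizerIn T Q, h x ∈ normalizerIn T Q := by
  have hm := (isMap_autFun hn.1).mpr hν
  obtain ⟨h, hh, eh⟩ := receptive_extend (fullyNormalized_props hS hF hn).2.2 hm (img_autFun ν)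
  have hle : normalizerIn T Q ≤ extSub S Q (autFun ν) := fun t ht => by
    obtain ⟨s, hs, es⟩ := mem_autInducedBy.mp
      (hnorm _ (conjAut_mem_autInducedBy ht.2 ht.1))
    refine mem_extSub.mpr ⟨hT.1 ht.1, ht.2, s, hT.1 hs, fun x hx => ?_⟩
    rw [← es ⟨autFun ν x, autFun_mem ν hx⟩,
      ← autFun_apply (ν * conjAut Q t ht.2 * ν⁻¹) ⟨_, autFun_mem ν hx⟩, ← autFun_mul _ ν hx,
      inv_mul_cancel_right, autFun_mul _ _ hx, autFun_apply_mem _ hx, conjAut_apply]
  have hh' := hh.mono hle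
  refine ⟨h, hh', eh, fun x hx => ?_⟩
  have h1 := hh'.mem_normalizerIn (P := Q) (le_normalizerIn hQT) hx hx.2
  rw [(img_congr eh).trans (img_autFun ν)] at h1
  exact ⟨stronglyClosed_apply hT hh' hx hx.1, h1.2⟩

/-- Every map on a subgroup of `T` has a label. -/
theorem exists_lab (hS : IsPGroup p S) (hF : F.IsSaturated p) (hX : Fam F T p ℋ X) :
    ∀ {P : Subgroup Ω}, P ≤ T → ∀ {f : Ω → Ω}, IsMap F P f → ∃ α, Lab F T ℋ X P f α := by
  intro P hPT
  haveI := finite_of_le hX.le_S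
  induction hm : Nat.card T - Nat.card P using Nat.strong_induction_on generalizing P with
  | _ m ih =>
  intro f hf
  rcases hPT.eq_or_lt with rfl | hlt
  · obtain ⟨α, hα, eα⟩ := hf.exists_aut
      (img_eq_of_apply hf le_rfl fun x hx => hX.apply_mem hf le_rfl hx)
    exact ⟨α, (Lab.of_aut hX le_rfl hα).congr fun x hx => (eα x hx).symm⟩
  have big : ∀ {R : Subgroup Ω}, R ≤ T → Nat.card P < Nat.card R → ∀ {g : Ω → Ω}, IsMap F R g →
      ∃ α, Lab F T ℋ X R g α := fun {R} hR hc {g} => by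
    have := Subgroup.card_le_of_le hR
    exact fun hg => ih (Nat.card T - Nat.card R) (by omega) hR rfl hg
  have hTp : IsPGroup p T := hS.of_injective _ (Subgroup.inclusion_injective hX.le_S)
  have grow : ∀ {R : Subgroup Ω}, R ≤ T → Nat.card R = Nat.card P →
      Nat.card P < Nat.card (normalizerIn T R) := fun {R} hR hc => by
    have hRT : R < T := lt_of_le_of_ne hR fun e => by
      subst e
      exact hlt.ne (Subgroup.eq_of_le_of_card_ge hlt.le hc.le)
    have : Finite (normalizerIn T R) := finite_of_le inf_le_left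
    rw [← hc]
    exact lt_of_le_of_ne (Subgroup.card_le_of_le (le_normalizerIn hR)) fun e =>
      (lt_normalizerIn hTp hRT).ne (Subgroup.eq_of_le_of_card_ge (le_normalizerIn hR) e.ge)
  have hPS := hPT.trans hX.le_S
  obtain ⟨Q, hPQ, hQ⟩ := exists_fullyNormalized (F := F) hPS
  obtain ⟨f₁, hf₁, hi₁⟩ := isConj_iff.mp hPQ
  have hQT : Q ≤ T := hi₁ ▸ IsMap.img_le_iff.mpr fun x hx => hX.apply_mem hf₁ hPT hx
  have hcQ : Nat.card Q = Nat.card P := isConj_card hPQ
  obtain ⟨-, hfa, hrec⟩ := fullyNormalized_props hS hF hQ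
  have good : ∀ {R : Subgroup Ω}, R ≤ T → F.IsConj R Q →
      ∃ h α, img R h = Q ∧ Lab F T ℋ X R h α := fun {R} hR hc => by
    obtain ⟨h₀, hh₀, hi₀⟩ := isConj_iff.mp hc
    obtain ⟨-, -, h, hh, hi, -, -⟩ := exists_map_normalizer hS hfa hrec hh₀ hi₀
    have hhT : IsMap F (normalizerIn T R) h :=
      hh.mono fun x hx => ⟨hX.le_S hx.1, hx.2⟩
    obtain ⟨α, hα⟩ := big inf_le_left (grow hR ((isConj_card hc).symm.trans hcQ)) hhT
    exact ⟨h, α, hi, hα.mono (le_normalizerIn hR)⟩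
  have haut : ∀ μ ∈ F.autGroup Q, ∃ α, Lab F T ℋ X Q (autFun μ) α := by
    intro μ hμ
    by_cases hQℋ : Q ∈ ℋ
    · obtain ⟨x, hx, ν, hν, rfl, hnorm⟩ := exists_split hS hF hX hQℋ hQ hμ
      obtain ⟨h, hh, eh, -⟩ := extend_split hS hF hX.sc hQT hQ hν hnorm
      obtain ⟨b, hb⟩ := big inf_le_left (grow hQT hcQ) hh
      have h1 : Lab F T ℋ X Q (autFun x) 1 :=
        Lab.of_gen hX (.base hQℋ hx le_rfl fun _ _ => rfl)
      exact ⟨1 * b, (Lab.comp hX (hb.mono (le_normalizerIn hQT)) h1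
        fun y hy => eh y hy ▸ autFun_mem ν hy).congr fun y hy => by
          show _ = autFun x (h y)
          rw [eh y hy, autFun_mul _ _ hy]⟩
    · obtain ⟨g, hg, hgQ, hgn, hgo⟩ := hX.rad Q hQT hQ hQℋ
      have hm : IsMap F Q (autFun μ) := (isMap_autFun hQ.1).mpr hμ
      obtain ⟨h, hh, eh⟩ := receptive_extend hrec hm (img_autFun μ)
      haveI := finite_of_le hQ.1
      haveI : Finite (MulAut Q) := Finite.of_injective
        (fun f : MulAut Q => (f : Q → Q)) DFunLike.coe_injective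
      have hgext : g ∈ extSub S Q (autFun μ) := by
        obtain ⟨V, hV⟩ := hfa.2
        haveI := Cfsg.Lib.Components.pCore_normal' (G := F.autGroup Q) p
        obtain ⟨b, hb, eb⟩ := Criterion.opAut_normal hQ.1 hμ hgo
        have h2 := (Cfsg.Lib.Components.isPGroup_pCore p).le_sylow_of_normal V hb
        rw [hV] at h2
        have h3 : μ * conjAut Q g hgn * μ⁻¹ ∈ autInducedBy S Q := by rw [← eb]; exact h2
        obtain ⟨s, hs, es⟩ := mem_autInducedBy.mp h3
        refine mem_extSub.mpr ⟨hX.le_S hg.1, hgn, s, hs, fun x hx => ?_⟩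
        rw [← es ⟨autFun μ x, autFun_mem μ hx⟩,
          ← autFun_apply (μ * conjAut Q g hgn * μ⁻¹) ⟨_, autFun_mem μ hx⟩, ← autFun_mul _ μ hx,
          inv_mul_cancel_right, autFun_mul _ _ hx, autFun_apply_mem _ hx, conjAut_apply]
      set R := extSub S Q (autFun μ) ⊓ T
      have hQR : Q ≤ R := le_inf (le_extSub hm) hQT
      haveI : Finite R := finite_of_le inf_le_right
      have hc : Nat.card P < Nat.card R := hcQ ▸ lt_of_le_of_ne (Subgroup.card_le_of_le hQR)
        fun e => hgQ ((Subgroup.eq_of_le_of_card_ge hQR e.ge).ge ⟨hgext, hg.1⟩)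
      obtain ⟨b, hb⟩ := big inf_le_right hc (hh.mono inf_le_left)
      exact ⟨b, (hb.mono hQR).congr fun x hx => (eh x hx).symm⟩
  obtain ⟨a, α, hai, hla⟩ := good hPT hPQ
  obtain ⟨b, β, hbi, hlb⟩ := good (IsMap.img_le_iff.mpr fun x hx => hX.apply_mem hf hPT hx)
    (isConj_trans (isConj_symm (isConj_iff.mpr ⟨f, hf, rfl⟩)) hPQ)
  have ha := hla.isMap hX
  have hb := hlb.isMap hX
  obtain ⟨a', ha', hai', hal, har⟩ := ha.exists_inv
  obtain ⟨b', hb', hbi', hbl, -⟩ := hb.exists_inv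
  rw [hai] at ha' hai' har
  have hmid := (ha'.comp hf fun x hx => hai' ▸ IsMap.apply_mem_img hx).comp hb
    fun x hx => IsMap.apply_mem_img (hai' ▸ IsMap.apply_mem_img hx : a' x ∈ P)
  have hmi : img Q (b ∘ f ∘ a') = Q := by
    haveI := finite_of_le hQ.1
    refine Subgroup.eq_of_le_of_card_ge (IsMap.img_le_iff.mpr fun x hx => ?_) hmid.card_img.ge
    exact hbi ▸ IsMap.apply_mem_img (IsMap.apply_mem_img (hai' ▸ IsMap.apply_mem_img hx : a' x ∈ P))
  obtain ⟨μ, hμ, eμ⟩ := hmid.exists_aut hmi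
  obtain ⟨γ, hγ⟩ := haut μ hμ
  have hb'l := hlb.inv hX hbl
  rw [hbi] at hb'l
  have haQ : ∀ x ∈ P, a x ∈ Q := fun x hx => hai ▸ IsMap.apply_mem_img hx
  refine ⟨_, ((Lab.comp hX hla hγ haQ).comp hX hb'l fun x hx => autFun_mem μ (haQ x hx)).congr
    fun x hx => ?_⟩
  show f x = b' (autFun μ (a x))
  rw [eμ _ (haQ x hx)]
  show f x = b' (b (f (a' (a x))))
  rw [hal x hx, hbl _ (IsMap.apply_mem_img hx)]

end Cfsg.Lib.Fusion.NFam
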