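import Cfsg.Agent.Fusion.NormalFamily.Extend

/-!
Normal families: the subgroups of a normalizer and the automorphisms they induce.
-/

set_option autoImplicit false
set_option linter.unusedSectionVars false
set_option linter.style.haveILetI false

namespace Cfsg.Lib.Fusion.NFam

open Cfsg Cfsg.FusionSystem Cfsg.Lib.Fusion

universe u

variable {Ω : Type u} [Group Ω] {S T : Subgroup Ω} {F : FusionSystem S} {p : ℕ}
  {ℋ : Set (Subgroup Ω)} {X : ∀ Q : Subgroup Ω, Subgroup (MulAut Q)} {Q : Subgroup Ω}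

theorem eq_conjAut {α : MulAut Q} {g : Ω} (hg : g ∈ Subgroup.normalizer (Q : Set Ω))
    (e : ∀ x : Q, ((α x : Q) : Ω) = g * x * g⁻¹) : α = conjAut Q g hg :=
  MulEquiv.ext fun x => Subtype.ext ((e x).trans (conjAut_apply hg x).symm)

theorem mem_normalizer_of_induced [Finite Q] {α : MulAut Q} {g : Ω}
    (e : ∀ x : Q, ((α x : Q) : Ω) = g * x * g⁻¹) : g ∈ Subgroup.normalizer (Q : Set Ω) :=
  mem_normalizer_of_maps_finite fun x hx => e ⟨x, hx⟩ ▸ SetLike.coe_mem _

/-- The automorphisms induced by the preimage of `A` are those of `A`. -/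
theorem autInducedBy_pre [Finite Q] {A : Subgroup (MulAut Q)} (hA : A ≤ autInducedBy T Q) :
    autInducedBy (pre T A) Q = A := by
  refine le_antisymm (fun α hα => ?_) fun α hα => ?_
  · obtain ⟨t, ht, et⟩ := mem_autInducedBy.mp hα
    obtain ⟨ht', hta⟩ := mem_pre.mp ht
    rwa [eq_conjAut ht'.2 et]
  · obtain ⟨t, ht, et⟩ := mem_autInducedBy.mp (hA hα)
    have htn := mem_normalizer_of_induced et
    exact mem_autInducedBy.mpr
      ⟨t, mem_pre.mpr ⟨⟨ht, htn⟩, eq_conjAut htn et ▸ hα⟩, et⟩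

theorem le_pre_autInducedBy {H : Subgroup Ω} (hH : H ≤ normalizerIn T Q) :
    H ≤ pre T (autInducedBy H Q) := fun _ ht =>
  mem_pre.mpr ⟨hH ht, conjAut_mem_autInducedBy (hH ht).2 ht⟩

theorem autInducedBy_normalizerIn [Finite Q] :
    autInducedBy (normalizerIn T Q) Q = autInducedBy T Q := by
  refine le_antisymm (autInducedBy_mono inf_le_left) fun α hα => ?_
  obtain ⟨t, ht, et⟩ := mem_autInducedBy.mp hα
  exact mem_autInducedBy.mpr ⟨t, ⟨ht, mem_normalizer_of_induced et⟩, et⟩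

variable [Finite S]

/-- The preimage of the automorphisms induced by `H`, when `H` contains the centralizer. -/
theorem pre_autInducedBy (hX : Fam F T p ℋ X) (hQ : Q ∈ ℋ) {H : Subgroup Ω} (hQH : Q ≤ H)
    (hH : H ≤ normalizerIn T Q) : pre T (autInducedBy H Q) = H := by
  refine le_antisymm (fun s hs => ?_) (le_pre_autInducedBy hH)
  obtain ⟨hs', ha⟩ := mem_pre.mp hs
  obtain ⟨t, ht, et⟩ := mem_autInducedBy.mp ha
  have hc : t⁻¹ * s ∈ centralizerIn T Q := Fusion.mem_centralizerIn.mpr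
    ⟨T.mul_mem (T.inv_mem (hH ht).1) hs'.1, fun z hz => by
      have h1 := et ⟨z, hz⟩
      rw [conjAut_apply] at h1
      calc t⁻¹ * s * z * (t⁻¹ * s)⁻¹ = t⁻¹ * (s * z * s⁻¹) * t := by group
        _ = z := by rw [h1]; group⟩
  have := H.mul_mem ht (hQH (hX.centric Q hQ hc))
  rwa [mul_inv_cancel_left] at this

/-- A map extending `y` intertwines the induced automorphisms. -/
theorem ext_conjAut (hX : Fam F T p ℋ X) {y : MulAut Q} {g : Ω → Ω} {H : Subgroup Ω}
    (hg : IsMap F H g) (hQH : Q ≤ H) (hH : H ≤ normalizerIn T Q)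
    (eg : ∀ z ∈ Q, g z = autFun y z) (t : Ω) (ht : t ∈ H)
    (htn : t ∈ Subgroup.normalizer (Q : Set Ω)) :
    ∃ hg : g t ∈ normalizerIn T Q, conjAut Q (g t) hg.2 = y * conjAut Q t htn * y⁻¹ := by
  refine ⟨mem_normalizerIn_of hX hg hQH hH (fun z hz => eg z hz ▸ autFun_mem y hz) ht,
    eq_of_autFun fun z hz => ?_⟩
  have hy' := autFun_mem y⁻¹ hz
  rw [autFun_mul _ _ hz, autFun_mul _ _ (autFun_mem _ hz), autFun_apply_mem _ hz, conjAut_apply,
    autFun_apply_mem (conjAut Q t htn) hy', conjAut_apply,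
    ← eg _ (conj_mem_of_mem_normalizer htn hy'), hg.map_conj ht (hQH hy'), eg _ hy',
    autFun_inv_apply y hz]

/-- The automorphisms induced by the image of a map extending `y`. -/
theorem autInducedBy_img (hX : Fam F T p ℋ X) (hQ : Q ∈ ℋ) {y : MulAut Q} {g : Ω → Ω}
    {H : Subgroup Ω} (hg : IsMap F H g) (hQH : Q ≤ H) (hH : H ≤ normalizerIn T Q)
    (eg : ∀ z ∈ Q, g z = autFun y z) :
    autInducedBy (img H g) Q = (autInducedBy H Q).map (MulAut.conj y).toMonoidHom := by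
  haveI := finite_of_le hX.le_S
  haveI := finite_of_le (hX.sub Q hQ)
  refine le_antisymm (fun α hα => ?_) fun α hα => ?_
  · obtain ⟨s, hs, es⟩ := mem_autInducedBy.mp hα
    obtain ⟨t, ht, rfl⟩ := hg.mem_img.mp hs
    obtain ⟨hgt, e⟩ := ext_conjAut hX hg hQH hH eg t ht (hH ht).2
    refine ⟨_, conjAut_mem_autInducedBy (hH ht).2 ht, ?_⟩
    rw [eq_conjAut hgt.2 es, e]
    rfl
  · obtain ⟨a, ha, rfl⟩ := hα
    obtain ⟨t, ht, et⟩ := mem_autInducedBy.mp ha
    obtain ⟨hgt, e⟩ := ext_conjAut hX hg hQH hH eg t ht (hH ht).2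
    rw [eq_conjAut (hH ht).2 et]
    show y * conjAut Q t (hH ht).2 * y⁻¹ ∈ _
    rw [← e]
    exact conjAut_mem_autInducedBy hgt.2 (IsMap.apply_mem_img ht)

end Cfsg.Lib.Fusion.NFam
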