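import Cfsg.Agent.Fusion.NormalFamily.System
import Cfsg.Agent.Transfer.Control

/-!
Building normal families: the automorphisms generated by the elements of order prime to `p` of a
given family and the transports of the automorphisms induced by the strongly closed subgroup.
-/

set_option autoImplicit false
set_option linter.unusedSectionVars false
set_option linter.style.haveILetI false

namespace Cfsg.Lib.Fusion.NFam

open Cfsg Cfsg.FusionSystem Cfsg.Lib.Fusion
open scoped commutatorElement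

universe u

variable {Ω : Type u} [Group Ω] {S T : Subgroup Ω} {F : FusionSystem S} {p : ℕ}
  {ℋ : Set (Subgroup Ω)} {G : ∀ Q : Subgroup Ω, Subgroup (MulAut Q)} {Q : Subgroup Ω}

/-- A transport of an automorphism induced by `T`. -/
def IsTransl (F : FusionSystem S) (T Q : Subgroup Ω) (β : MulAut Q) : Prop :=
  ∃ (R : Subgroup Ω) (f : Ω → Ω), IsMap F R f ∧ img R f = Q ∧ R ≤ T ∧
    ∃ t ∈ normalizerIn T R, ∀ x ∈ R, autFun β (f x) = f (t * x * t⁻¹)

/-- The generated family. -/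
def genX (F : FusionSystem S) (T : Subgroup Ω) (p : ℕ)
    (G : ∀ Q : Subgroup Ω, Subgroup (MulAut Q)) (Q : Subgroup Ω) : Subgroup (MulAut Q) :=
  Subgroup.closure {β | (β ∈ G Q ∧ (orderOf β).Coprime p) ∨ IsTransl F T Q β}

/-- The hypotheses on the given family. -/
structure Pre (F : FusionSystem S) (T : Subgroup Ω) (p : ℕ) (ℋ : Set (Subgroup Ω))
    (G : ∀ Q : Subgroup Ω, Subgroup (MulAut Q)) : Prop where
  sc : F.StronglyClosed T
  sub : ∀ Q ∈ ℋ, Q ≤ T
  centric : ∀ Q ∈ ℋ, centralizerIn T Q ≤ Q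
  conj : ∀ Q ∈ ℋ, ∀ R, F.IsConj Q R → R ∈ ℋ
  up : ∀ Q ∈ ℋ, ∀ R, Q ≤ R → R ≤ T → R ∈ ℋ
  top : T ∈ ℋ
  le : ∀ Q ∈ ℋ, G Q ≤ F.autGroup Q
  equiv : ∀ (Q R : Subgroup Ω) (f : Ω → Ω) (hf : IsMap F Q f) (hi : img Q f = R), Q ∈ ℋ →
    ∀ β ∈ G Q, MulAut.congr (hf.equiv hi) β ∈ G R
  ind : ∀ Q ∈ ℋ, autInducedBy T Q ≤ G Q
  res : ∀ Q R, Q ∈ ℋ → Q ≤ R → R ≤ T → ∀ β ∈ G R, ∀ γ : MulAut Q,
    (∀ x ∈ Q, autFun γ x = autFun β x) → γ ∈ G Q
  ext : ∀ Q R, Q ∈ ℋ → Q ≤ R → R ≤ T → ∀ β ∈ F.autGroup R, (orderOf β).Coprime p →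
    ∀ γ ∈ G Q, (∀ x ∈ Q, autFun γ x = autFun β x) → β ∈ G R
  rad : ∀ Q, Q ≤ T → F.IsFullyNormalized Q → Q ∉ ℋ →
    ∃ g ∈ normalizerIn T Q, g ∉ Q ∧
      ∃ hg : g ∈ Subgroup.normalizer (Q : Set Ω), conjAut Q g hg ∈ Criterion.opAut F p Q
  foc : ∀ Q ∈ ℋ, F.IsFullyNormalized Q → ∀ x ∈ G Q, ∀ y ∈ G Q, x ∈ autInducedBy S Q →
    y * x * y⁻¹ ∈ autInducedBy S Q → x⁻¹ * (y * x * y⁻¹) ∈ autInducedBy T Q

theorem isTransl_conjAut [Finite S] (hTS : T ≤ S) (hQT : Q ≤ T) {t : Ω} (ht : t ∈ T)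
    (hn : t ∈ Subgroup.normalizer (Q : Set Ω)) : IsTransl F T Q (conjAut Q t hn) :=
  ⟨Q, id, isMap_id (hQT.trans hTS), img_id Q, hQT, t, ⟨ht, hn⟩, fun x hx => by
    show autFun (conjAut Q t hn) x = t * x * t⁻¹
    rw [autFun_apply_mem _ hx, conjAut_apply]⟩

theorem IsTransl.congr {R : Subgroup Ω} {f : Ω → Ω} (hf : IsMap F Q f) (hi : img Q f = R)
    {β : MulAut Q} (h : IsTransl F T Q β) : IsTransl F T R (MulAut.congr (hf.equiv hi) β) := by
  obtain ⟨P, g, hg, hgi, hPT, t, ht, e⟩ := h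
  have hm : ∀ x ∈ P, g x ∈ Q := fun x hx => hgi ▸ IsMap.apply_mem_img hx
  refine ⟨P, f ∘ g, hg.comp hf hm, ?_, hPT, t, ht, fun x hx => ?_⟩
  · rw [img_comp hg (hgi.symm ▸ hf), hgi, hi]
  · show autFun (MulAut.congr (hf.equiv hi) β) (f (g x)) = f (g (t * x * t⁻¹))
    rw [congr_equiv_spec hf hi β (hm x hx), e x hx]

variable [Finite S] [Fact p.Prime]

theorem genX_le (hG : Pre F T p ℋ G) (hQ : Q ∈ ℋ) : genX F T p G Q ≤ G Q := by
  refine (Subgroup.closure_le _).mpr ?_
  rintro β (⟨hβ, -⟩ | ⟨R, f, hf, hi, hRT, t, ht, e⟩)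
  · exact hβ
  · have hR : R ∈ ℋ := hG.conj Q hQ R (isConj_symm (isConj_iff.mpr ⟨f, hf, hi⟩))
    have h1 := hG.equiv R Q f hf hi hR _ (hG.ind R hR (conjAut_mem_autInducedBy ht.2 ht.1))
    show β ∈ G Q
    convert h1 using 1
    refine eq_of_autFun fun y hy => ?_
    rw [← hi] at hy
    obtain ⟨x, hx, rfl⟩ := hf.mem_img.mp hy
    rw [congr_equiv_spec hf hi _ hx, e x hx, autFun_apply_mem _ hx, conjAut_apply]

theorem autInducedBy_le_genX (hG : Pre F T p ℋ G) (hQT : Q ≤ T) :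
    autInducedBy T Q ≤ genX F T p G Q := fun α hα => by
  haveI := finite_of_le hG.sc.1
  haveI := finite_of_le hQT
  obtain ⟨t, ht, et⟩ := mem_autInducedBy.mp hα
  have hn := mem_normalizer_of_induced et
  rw [eq_conjAut hn et]
  exact Subgroup.subset_closure (Or.inr (isTransl_conjAut hG.sc.1 hQT ht hn))

/-- A translate of an induced automorphism, read in `Aut_S(Q)`, is induced by `T`. -/
theorem mem_induced_of_transl (hS : IsPGroup p S) (hF : F.IsSaturated p) (hT : F.StronglyClosed T)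
    (hn : F.IsFullyNormalized Q) {β : MulAut Q}
    (h : IsTransl F T Q β) (hβ : β ∈ autInducedBy S Q) : β ∈ autInducedBy T Q := by
  haveI := finite_of_le hT.1
  obtain ⟨R, f, hf, hi, hRT, t, ht, e⟩ := h
  obtain ⟨-, -, hrec⟩ := fullyNormalized_props hS hF hn
  obtain ⟨g, hg, eg⟩ := receptive_extend hrec hf hi
  obtain ⟨s, hs, es⟩ := mem_autInducedBy.mp hβ
  have htE : t ∈ extSub S R f := mem_extSub.mpr ⟨hT.1 ht.1, ht.2, s, hs, fun x hx => by
    rw [← e x hx]
    have hfx : f x ∈ Q := hi ▸ IsMap.apply_mem_img hx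
    rw [autFun_apply_mem β hfx]
    exact es ⟨f x, hfx⟩⟩
  have hgt : g t ∈ T := stronglyClosed_apply hT hg htE ht.1
  have key : ∀ y ∈ Q, autFun β y = g t * y * (g t)⁻¹ := fun y hy => by
    rw [← hi] at hy
    obtain ⟨x, hx, rfl⟩ := hf.mem_img.mp hy
    rw [e x hx, ← eg _ (conj_mem_of_mem_normalizer ht.2 hx),
      hg.map_conj htE (le_extSub hf hx), eg x hx]
  exact mem_autInducedBy.mpr ⟨g t, hgt, fun y => by rw [← autFun_apply, key y y.2]⟩

/-- The generated family is stable under the maps. -/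
theorem genX_congr (hG : Pre F T p ℋ G) {Q R : Subgroup Ω} {f : Ω → Ω} (hf : IsMap F Q f)
    (hi : img Q f = R) (hQ : Q ∈ ℋ) {β : MulAut Q} (hβ : β ∈ genX F T p G Q) :
    MulAut.congr (hf.equiv hi) β ∈ genX F T p G R := by
  induction hβ using Subgroup.closure_induction with
  | mem β hβ =>
    refine Subgroup.subset_closure ?_
    rcases hβ with ⟨hβG, hc⟩ | ht
    · exact Or.inl ⟨hG.equiv Q R f hf hi hQ β hβG, by rw [MulEquiv.orderOf_eq]; exact hc⟩
    · exact Or.inr (ht.congr hf hi)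
  | one => rw [map_one]; exact one_mem _
  | mul a b _ _ ha hb => rw [map_mul]; exact mul_mem ha hb
  | inv a _ ha => rw [map_inv]; exact Subgroup.inv_mem _ ha

/-- The induced automorphisms in the generated family at a fully normalized member. -/
theorem genX_syl (hS : IsPGroup p S) (hF : F.IsSaturated p) (hG : Pre F T p ℋ G) (hQ : Q ∈ ℋ)
    (hn : F.IsFullyNormalized Q) :
    genX F T p G Q ⊓ autInducedBy S Q ≤ autInducedBy T Q := by
  have hQT := hG.sub Q hQ
  haveI := finite_of_le hn.1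
  haveI : Finite (MulAut Q) := NormCent.finite_mulAut Q
  set X := genX F T p G Q
  have hXF : X ≤ F.autGroup Q := (genX_le hG hQ).trans (hG.le Q hQ)
  have hXn : ∀ μ ∈ F.autGroup Q, ∀ x ∈ X, μ * x * μ⁻¹ ∈ X := fun μ hμ x hx => by
    have h := (isMap_autFun hn.1).mpr hμ
    rw [← congr_aut (β := x) h]
    exact genX_congr hG h (img_autFun μ) hQ hx
  -- a Sylow subgroup of the family
  set A := F.autGroup Q
  set N := X.subgroupOf A
  haveI : N.Normal := ⟨fun b hb a => hXn a a.2 b hb⟩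
  obtain ⟨-, V, hV⟩ := (fullyNormalized_props hS hF hn).2.1
  set Us : Subgroup X := (autInducedBy S Q).subgroupOf X
  have hUs : IsPGroup p Us :=
    (isPGroup_autInducedBy hS Q).comap_of_injective _ (Subgroup.subtype_injective X)
  obtain ⟨P, hP⟩ := hUs.exists_le_sylow
  have hconjS : ∀ W : Subgroup X, IsPGroup p W → ∃ μ ∈ A, ∀ w ∈ W,
      μ * (w : MulAut Q) * μ⁻¹ ∈ autInducedBy S Q := fun W hW => by
    obtain ⟨μ, hμ, h⟩ := exists_conj_into_autS (fullyNormalized_props hS hF hn).2.1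
      (hW.map X.subtype) (by rintro _ ⟨w, -, rfl⟩; exact hXF w.2)
    exact ⟨μ, hμ, fun w hw => h _ ⟨w, hw, rfl⟩⟩
  have hPeq : (P : Subgroup X) = Us := by
    refine (Subgroup.eq_of_le_of_card_ge hP ?_).symm
    obtain ⟨μ, hμ, h⟩ := hconjS P P.2
    exact Nat.card_le_card_of_injective
      (fun w => (⟨⟨μ * ((w : X) : MulAut Q) * μ⁻¹, hXn μ hμ _ (w : X).2⟩, h w w.2⟩ : Us))
      fun a b e => Subtype.ext (Subtype.ext (mul_left_cancel (mul_right_cancel
        (congrArg (fun z : Us => ((z : X) : MulAut Q)) e))))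
  set D : Subgroup X := (autInducedBy T Q).subgroupOf X
  have hDP : D ≤ P := fun d hd => hP (show d ∈ Us from autInducedBy_mono hG.sc.1 hd)
  have hfoc : Subgroup.focalSubgroup (P : Subgroup X) ≤ D := by
    rw [Subgroup.focalSubgroup_def, Subgroup.closure_le]
    rintro _ ⟨hm, x, hx, u, rfl⟩
    rw [hPeq] at hx hm
    have hy : u * x⁻¹ * u⁻¹ ∈ Us := by
      have := Us.mul_mem (Us.inv_mem hx) hm
      simpa [commutatorElement_def, mul_assoc] using this
    have hxX : ∀ z : X, (z : MulAut Q) ∈ G Q := fun z => genX_le hG hQ z.2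
    have h1 := hG.foc Q hQ hn _ (hxX x⁻¹) _ (hxX u) (Us.inv_mem hx) hy
    show ((⁅x, u⁆ : X) : MulAut Q) ∈ autInducedBy T Q
    rw [Subgroup.coe_inv, inv_inv] at h1
    simpa [commutatorElement_def, mul_assoc] using h1
  obtain ⟨k, hk⟩ := P.2.exists_card_eq
  have hd : D.relIndex (P : Subgroup X) ∣ p ^ k :=
    hk ▸ Subgroup.relIndex_dvd_card ..
  obtain ⟨i, -, hi⟩ := (Nat.dvd_prime_pow (Fact.out : p.Prime)).1 hd
  obtain ⟨M, hM, hMP, -, -, hidx⟩ := Cfsg.Lib.Transfer.exists_normal_inf_eq (P : Subgroup X) D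
    hDP hfoc
    (hi ▸ Nat.Coprime.pow_right i
      ((Fact.out : p.Prime).coprime_iff_not_dvd.2 P.not_dvd_index).symm)
  haveI := hM
  have hMtop : M = ⊤ := by
    rw [Subgroup.eq_top_iff']
    intro x
    obtain ⟨x, hxX⟩ := x
    clear * - hxX hMP hidx hi hM hPeq hS hF hG hn hQT hXF
    induction hxX using Subgroup.closure_induction with
    | mem β hβ =>
      rcases hβ with ⟨-, hc⟩ | ht
      · refine Cfsg.Lib.Transfer.mem_of_isPGroup_quotient_of_coprime M
          (Cfsg.Lib.Transfer.isPGroup_quotient_of_index M (hidx.trans hi)) ?_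
        rw [← Subgroup.orderOf_coe]
        exact hc
      · set β₀ : X := ⟨β, Subgroup.subset_closure (Or.inr ht)⟩
        have hp : IsPGroup p (Subgroup.zpowers β₀) := by
          obtain ⟨R, f, hf, hi', hRT, t, ht', e⟩ := ht
          haveI := finite_of_le hf.le
          obtain ⟨j, hj⟩ := isPGroup_autInducedBy hS R
            ⟨_, autInducedBy_mono hG.sc.1 (conjAut_mem_autInducedBy ht'.2 ht'.1)⟩
          have hj' : (conjAut R t ht'.2) ^ p ^ j = 1 := congrArg Subtype.val hj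
          have hβe : β = MulAut.congr (hf.equiv hi') (conjAut R t ht'.2) :=
            eq_of_autFun fun y hy => by
              rw [← hi'] at hy
              obtain ⟨x, hx, rfl⟩ := hf.mem_img.mp hy
              rw [congr_equiv_spec hf hi' _ hx, e x hx, autFun_apply_mem _ hx, conjAut_apply]
          have hb : β₀ ^ p ^ j = 1 := Subtype.ext (by
            show β ^ p ^ j = 1
            rw [hβe, ← map_pow, hj', map_one])
          obtain ⟨j', -, hj''⟩ := (Nat.dvd_prime_pow (Fact.out : p.Prime)).1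
            (orderOf_dvd_of_pow_eq_one hb)
          exact IsPGroup.of_card (n := j') ((Nat.card_zpowers β₀).trans hj'')
        obtain ⟨V', hV'⟩ := hp.exists_le_sylow
        obtain ⟨z, hz⟩ := MulAction.exists_smul_eq X V' P
        have h1 : z * β₀ * z⁻¹ ∈ ((z • V' : Sylow p X) : Subgroup X) :=
          ⟨β₀, hV' (Subgroup.mem_zpowers β₀), rfl⟩
        rw [hz, hPeq] at h1
        have h2 : z * β₀ * z⁻¹ ∈ D := by
          have hm := (isMap_autFun hn.1).mpr (hXF z.2)
          refine mem_induced_of_transl hS hF hG.sc hn ?_ h1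
          show IsTransl F T Q ((z : MulAut Q) * β * (z : MulAut Q)⁻¹)
          rw [← congr_aut (β := β) hm]
          exact ht.congr hm (img_autFun _)
        have h3 : z * β₀ * z⁻¹ ∈ M := (hMP.ge h2).1
        have h4 := hM.conj_mem _ h3 z⁻¹
        simpa [mul_assoc] using h4
    | one => exact M.one_mem
    | mul a b ha hb iha ihb => exact M.mul_mem iha ihb
    | inv a ha iha => exact M.inv_mem iha
  rintro x ⟨hxX, hxS⟩
  have hxP : (⟨x, hxX⟩ : X) ∈ (P : Subgroup X) := hP hxS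
  exact hMP.le ⟨hMtop.ge (Subgroup.mem_top _), hxP⟩

/-- The generated family is a normal family. -/
theorem fam_genX (hS : IsPGroup p S) (hF : F.IsSaturated p) (hG : Pre F T p ℋ G) :
    Fam F T p ℋ (genX F T p G) where
  sc := hG.sc
  sub := hG.sub
  centric := hG.centric
  conj := hG.conj
  up := hG.up
  top := hG.top
  le Q hQ := (genX_le hG hQ).trans (hG.le Q hQ)
  equiv Q R f hf hi hQ β hβ := genX_congr hG hf hi hQ hβ
  ind Q hQ := autInducedBy_le_genX hG (hG.sub Q hQ)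
  syl Q hQ hn := genX_syl hS hF hG hQ hn
  ext Q R hQ hQR hRT β hβ hc γ hγ e :=
    Subgroup.subset_closure (Or.inl ⟨hG.ext Q R hQ hQR hRT β hβ hc γ (genX_le hG hQ hγ) e, hc⟩)
  rad := hG.rad
  res Q R hQ hQR hRT β hβ γ e := by
    haveI := finite_of_le hG.sc.1
    haveI := finite_of_le hRT
    haveI := finite_of_le (hG.sub Q hQ)
    haveI : Finite (MulAut R) := NormCent.finite_mulAut R
    haveI : Finite (MulAut Q) := NormCent.finite_mulAut Q
    have hR : R ∈ ℋ := hG.up Q hQ R hQR hRT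
    -- powers restrict
    have hres : ∀ j : ℕ, ∀ y ∈ Q, autFun (γ ^ j) y = autFun (β ^ j) y := by
      intro j
      induction j with
      | zero => intro y hy; rw [pow_zero, pow_zero, autFun_one hy, autFun_one (hQR hy)]
      | succ j ih =>
        intro y hy
        rw [pow_succ', pow_succ', autFun_mul _ _ hy, autFun_mul _ _ (hQR hy), e _ (autFun_mem _ hy),
          ih y hy]
    have hdvd : orderOf γ ∣ orderOf β := orderOf_dvd_of_pow_eq_one (eq_of_autFun fun y hy => by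
      rw [hres _ y hy, pow_orderOf_eq_one, autFun_one (hQR hy), autFun_one hy])
    obtain ⟨a, b, ha, hb, hab, ⟨k, hk⟩, hbcop⟩ := Cfsg.Lib.Transfer.exists_pPart p β
    haveI : Finite (Subgroup.zpowers β) := inferInstance
    obtain ⟨i, rfl⟩ := (mem_powers_iff_mem_zpowers (x := β) (y := a)).mpr ha
    obtain ⟨j, rfl⟩ := (mem_powers_iff_mem_zpowers (x := β) (y := b)).mpr hb
    have hγ : γ = γ ^ i * γ ^ j := eq_of_autFun fun y hy => by
      rw [e y hy, ← pow_add, hres _ y hy, pow_add]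
      exact congrArg (fun z : MulAut R => autFun z y) hab.symm
    rw [hγ]
    refine mul_mem ?_ ?_
    · -- the `p`-part
      have hbX : β ^ i ∈ genX F T p G R := pow_mem hβ i
      obtain ⟨R', hRR', hn'⟩ := exists_fullyNormalized (F := F) (hRT.trans hG.sc.1)
      obtain ⟨f, hf, hfi⟩ := isConj_iff.mp hRR'
      have hR' : R' ∈ ℋ := hG.conj R hR R' hRR'
      haveI := finite_of_le hn'.1
      haveI : Finite (MulAut R') := NormCent.finite_mulAut R'
      set Φ := MulAut.congr (hf.equiv hfi)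
      have hΦX : Φ (β ^ i) ∈ genX F T p G R' := genX_congr hG hf hfi hR hbX
      set X' := genX F T p G R'
      set Us : Subgroup X' := (autInducedBy S R').subgroupOf X'
      have hXF : X' ≤ F.autGroup R' := (genX_le hG hR').trans (hG.le R' hR')
      have hcp : IsPGroup p (Subgroup.zpowers (Φ (β ^ i))) := by
        refine IsPGroup.of_card (n := k) ?_
        rw [Nat.card_zpowers, MulEquiv.orderOf_eq]
        exact hk
      obtain ⟨μ, hμ, hμS⟩ := exists_conj_into_autS (fullyNormalized_props hS hF hn').2.1 hcp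
        (Subgroup.zpowers_le.mpr (hXF hΦX))
      have h1 := hμS _ (Subgroup.mem_zpowers (Φ (β ^ i)))
      have hμm := (isMap_autFun hn'.1).mpr hμ
      have h2 : μ * Φ (β ^ i) * μ⁻¹ ∈ X' := by
        rw [← congr_aut (β := Φ (β ^ i)) hμm]
        exact genX_congr hG hμm (img_autFun μ) hR' hΦX
      obtain ⟨t, ht, et⟩ := mem_autInducedBy.mp (genX_syl hS hF hG hR' hn' ⟨h2, h1⟩)
      refine Subgroup.subset_closure (Or.inr ?_)
      have hm : ∀ y ∈ R, f y ∈ R' := fun y hy => hfi ▸ IsMap.apply_mem_img hy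
      set f' := autFun μ ∘ f
      have hf' : IsMap F R f' := hf.comp hμm hm
      have key : ∀ y ∈ R, f' (autFun (β ^ i) y) = t * f' y * t⁻¹ := fun y hy => by
        show autFun μ (f _) = t * autFun μ (f y) * t⁻¹
        rw [← congr_equiv_spec hf hfi _ hy, ← et ⟨_, autFun_mem μ (hm y hy)⟩, ← autFun_apply,
          ← autFun_mul _ μ (hm y hy), inv_mul_cancel_right, autFun_mul _ _ (hm y hy)]
      set P := img Q f'
      have hfQ := hf'.mono hQR
      have hPT : P ≤ T := hG.sub P (hG.conj Q hQ P (isConj_iff.mpr ⟨f', hfQ, rfl⟩))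
      have htP : t ∈ Subgroup.normalizer (P : Set Ω) := by
        haveI := finite_of_le hPT
        refine mem_normalizer_of_maps_finite fun z hz => ?_
        obtain ⟨y, hy, rfl⟩ := hfQ.mem_img.mp hz
        rw [← key y (hQR hy), ← hres i y hy]
        exact IsMap.apply_mem_img (autFun_mem _ hy)
      obtain ⟨l, hl, hli, hll, -⟩ := hfQ.exists_inv
      refine ⟨P, l, hl, hli, hPT, t, ⟨ht, htP⟩, fun z hz => ?_⟩
      obtain ⟨y, hy, rfl⟩ := hfQ.mem_img.mp hz
      rw [hll y hy, ← key y (hQR hy), ← hres i y hy, hll _ (autFun_mem _ hy)]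
    · refine Subgroup.subset_closure (Or.inl ⟨hG.res Q R hQ hQR hRT (β ^ j)
        (pow_mem (genX_le hG hR hβ) j) (γ ^ j) (hres j), ?_⟩)
      refine Nat.Coprime.coprime_dvd_left (orderOf_dvd_of_pow_eq_one (eq_of_autFun fun y hy => ?_))
        hbcop
      rw [← pow_mul, hres _ y hy, pow_mul, pow_orderOf_eq_one, autFun_one (hQR hy), autFun_one hy]

end Cfsg.Lib.Fusion.NFam
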