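import Cfsg.Agent.Fusion.Criterion.Site
import Cfsg.Agent.Fusion.NormalCentralizer.Basic
import Cfsg.Agent.Fusion.NormalCriteria

/-!
Normal families of automorphism groups on a strongly closed subgroup: the maps they generate and
their labels in the automizer of the strongly closed subgroup.
-/

set_option autoImplicit false
set_option linter.unusedSectionVars false
set_option linter.style.haveILetI false

namespace Cfsg.Lib.Fusion.NFam

open Cfsg Cfsg.FusionSystem Cfsg.Lib.Fusion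

universe u

variable {Ω : Type u} [Group Ω] {S T : Subgroup Ω} {F : FusionSystem S} {p : ℕ}
  {ℋ : Set (Subgroup Ω)} {X : ∀ Q : Subgroup Ω, Subgroup (MulAut Q)}

/-- A normal family of automorphism groups on the members of `ℋ`. -/
structure Fam (F : FusionSystem S) (T : Subgroup Ω) (p : ℕ) (ℋ : Set (Subgroup Ω))
    (X : ∀ Q : Subgroup Ω, Subgroup (MulAut Q)) : Prop where
  sc : F.StronglyClosed T
  sub : ∀ Q ∈ ℋ, Q ≤ T
  centric : ∀ Q ∈ ℋ, centralizerIn T Q ≤ Q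
  conj : ∀ Q ∈ ℋ, ∀ R, F.IsConj Q R → R ∈ ℋ
  up : ∀ Q ∈ ℋ, ∀ R, Q ≤ R → R ≤ T → R ∈ ℋ
  top : T ∈ ℋ
  le : ∀ Q ∈ ℋ, X Q ≤ F.autGroup Q
  equiv : ∀ (Q R : Subgroup Ω) (f : Ω → Ω) (hf : IsMap F Q f) (hi : img Q f = R), Q ∈ ℋ →
    ∀ β ∈ X Q, MulAut.congr (hf.equiv hi) β ∈ X R
  ind : ∀ Q ∈ ℋ, autInducedBy T Q ≤ X Q
  syl : ∀ Q ∈ ℋ, F.IsFullyNormalized Q → X Q ⊓ autInducedBy S Q ≤ autInducedBy T Q
  res : ∀ Q R, Q ∈ ℋ → Q ≤ R → R ≤ T → ∀ β ∈ X R, ∀ γ : MulAut Q,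
    (∀ x ∈ Q, autFun γ x = autFun β x) → γ ∈ X Q
  ext : ∀ Q R, Q ∈ ℋ → Q ≤ R → R ≤ T → ∀ β ∈ F.autGroup R, (orderOf β).Coprime p →
    ∀ γ ∈ X Q, (∀ x ∈ Q, autFun γ x = autFun β x) → β ∈ X R
  rad : ∀ Q, Q ≤ T → F.IsFullyNormalized Q → Q ∉ ℋ →
    ∃ g ∈ normalizerIn T Q, g ∉ Q ∧
      ∃ hg : g ∈ Subgroup.normalizer (Q : Set Ω), conjAut Q g hg ∈ Criterion.opAut F p Q

namespace Fam

variable (hX : Fam F T p ℋ X)
include hX

theorem le_S : T ≤ S := hX.sc.1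

theorem mem_conj {Q : Subgroup Ω} (hQ : Q ∈ ℋ) {f : Ω → Ω} (hf : IsMap F Q f) : img Q f ∈ ℋ :=
  hX.conj Q hQ _ (isConj_iff.mpr ⟨f, hf, rfl⟩)

theorem apply_mem {P : Subgroup Ω} {f : Ω → Ω} (hf : IsMap F P f) (hP : P ≤ T) {x : Ω}
    (hx : x ∈ P) : f x ∈ T := stronglyClosed_apply hX.sc hf hx (hP hx)

theorem top_map {α : MulAut T} (hα : α ∈ F.autGroup T) : IsMap F T (autFun α) :=
  (isMap_autFun hX.le_S).mpr hα

theorem base_map {Q : Subgroup Ω} (hQ : Q ∈ ℋ) {β : MulAut Q} (hβ : β ∈ X Q) :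
    IsMap F Q (autFun β) :=
  (isMap_autFun ((hX.sub Q hQ).trans hX.le_S)).mpr (hX.le Q hQ hβ)

end Fam

/-- The maps generated by the restrictions of the members of the family. -/
inductive Gen (ℋ : Set (Subgroup Ω)) (X : ∀ Q : Subgroup Ω, Subgroup (MulAut Q)) :
    Subgroup Ω → (Ω → Ω) → Prop
  | base {Q P : Subgroup Ω} {β : MulAut Q} {f : Ω → Ω} : Q ∈ ℋ → β ∈ X Q → P ≤ Q →
      (∀ x ∈ P, f x = autFun β x) → Gen ℋ X P f
  | comp {P R : Subgroup Ω} {f g f' : Ω → Ω} : Gen ℋ X P f → Gen ℋ X R g → (∀ x ∈ P, f x ∈ R) →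
      (∀ x ∈ P, f' x = g (f x)) → Gen ℋ X P f'

theorem Gen.congr {P : Subgroup Ω} {f : Ω → Ω} (h : Gen ℋ X P f) :
    ∀ {f' : Ω → Ω}, (∀ x ∈ P, f' x = f x) → Gen ℋ X P f' := by
  induction h with
  | base hQ hβ hP e => exact fun e' => .base hQ hβ hP fun x hx => (e' x hx).trans (e x hx)
  | comp h1 h2 hm e => exact fun e' => .comp h1 h2 hm fun x hx => (e' x hx).trans (e x hx)

theorem Gen.mono {P : Subgroup Ω} {f : Ω → Ω} (h : Gen ℋ X P f) :
    ∀ {P' : Subgroup Ω}, P' ≤ P → Gen ℋ X P' f := by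
  induction h with
  | base hQ hβ hP e => exact fun hle => .base hQ hβ (hle.trans hP) fun x hx => e x (hle hx)
  | comp h1 h2 hm e ih1 =>
    exact fun hle => .comp (ih1 hle) h2 (fun x hx => hm x (hle hx)) fun x hx => e x (hle hx)

theorem Gen.isMap (hX : Fam F T p ℋ X) {P : Subgroup Ω} {f : Ω → Ω} (h : Gen ℋ X P f) :
    IsMap F P f ∧ P ≤ T := by
  induction h with
  | base hQ hβ hP e =>
    exact ⟨((hX.base_map hQ hβ).mono hP).congr e, hP.trans (hX.sub _ hQ)⟩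
  | comp h1 h2 hm e ih1 ih2 => exact ⟨(ih1.1.comp ih2.1 hm).congr e, ih1.2⟩

theorem Gen.conj [Finite S] (hX : Fam F T p ℋ X) {P : Subgroup Ω} (hP : P ≤ T) {g : Ω}
    (hg : g ∈ T) : Gen ℋ X P (fun x => g * x * g⁻¹) :=
  .base hX.top (hX.ind T hX.top (conjAut_mem_autInducedBy (Subgroup.le_normalizer hg) hg)) hP
    fun x hx => by rw [autFun_apply_mem _ (hP hx), conjAut_apply]

theorem Gen.id_map [Finite S] (hX : Fam F T p ℋ X) {P : Subgroup Ω} (hP : P ≤ T) :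
    Gen ℋ X P id :=
  (Gen.conj hX hP T.one_mem).congr fun x _ => by simp

theorem Gen.inv [Finite S] (hX : Fam F T p ℋ X) {P : Subgroup Ω} {f : Ω → Ω} (h : Gen ℋ X P f) :
    ∃ k, Gen ℋ X (img P f) k ∧ ∀ x ∈ P, k (f x) = x := by
  induction h with
  | @base Q P β f hQ hβ hP e =>
    refine ⟨autFun β⁻¹, .base hQ ((X Q).inv_mem hβ) (IsMap.img_le_iff.mpr fun x hx => ?_)
      fun _ _ => rfl, fun x hx => ?_⟩
    · rw [e x hx]; exact autFun_mem β (hP hx)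
    · rw [e x hx]; exact autFun_inv_apply' β (hP hx)
  | @comp P R f g f' h1 h2 hm e ih1 ih2 =>
    obtain ⟨k1, hk1, e1⟩ := ih1
    obtain ⟨k2, hk2, e2⟩ := ih2
    have hm1 := (h1.isMap hX).1
    have hf' := ((Gen.comp h1 h2 hm e).isMap hX).1
    refine ⟨k1 ∘ k2, .comp (hk2.mono (IsMap.img_le_iff.mpr fun x hx => e x hx ▸
      IsMap.apply_mem_img (hm x hx))) hk1 (fun y hy => ?_) fun _ _ => rfl, fun x hx => ?_⟩
    · obtain ⟨x, hx, rfl⟩ := hf'.mem_img.mp hy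
      rw [e x hx, e2 _ (hm x hx)]
      exact IsMap.apply_mem_img hx
    · show k1 (k2 (f' x)) = x
      rw [e x hx, e2 _ (hm x hx), e1 x hx]

/-- Transport by the automizer of `T`. -/
theorem Gen.transport [Finite S] (hX : Fam F T p ℋ X) {α : MulAut T} (hα : α ∈ F.autGroup T)
    {P : Subgroup Ω} {f : Ω → Ω} (h : Gen ℋ X P f) :
    Gen ℋ X (img P (autFun α)) (fun y => autFun α (f (autFun α⁻¹ y))) := by
  induction h with
  | @base Q P β f hQ hβ hP e =>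
    have hQT := hX.sub Q hQ
    have ha := (hX.top_map hα).mono hQT
    refine .base (hX.mem_conj hQ ha) (hX.equiv Q _ _ ha rfl hQ β hβ) (img_mono hP _) fun y hy => ?_
    obtain ⟨x, hx, rfl⟩ := (ha.mono hP).mem_img.mp hy
    show autFun α (f (autFun α⁻¹ (autFun α x))) = _
    rw [autFun_inv_apply' α (hQT (hP hx)), e x hx, congr_equiv_spec ha rfl β (hP hx)]
  | @comp P R f g f' h1 h2 hm e ih1 ih2 =>
    have ha := (hX.top_map hα).mono (h1.isMap hX).2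
    have hfT : ∀ x ∈ P, f x ∈ T := fun x hx => hX.apply_mem (h1.isMap hX).1 (h1.isMap hX).2 hx
    refine .comp ih1 ih2 (fun y hy => ?_) fun y hy => ?_
    · obtain ⟨x, hx, rfl⟩ := ha.mem_img.mp hy
      rw [autFun_inv_apply' α ((h1.isMap hX).2 hx)]
      exact IsMap.apply_mem_img (hm x hx)
    · obtain ⟨x, hx, rfl⟩ := ha.mem_img.mp hy
      have hxT := (h1.isMap hX).2 hx
      show autFun α (f' (autFun α⁻¹ (autFun α x))) =
        autFun α (g (autFun α⁻¹ (autFun α (f (autFun α⁻¹ (autFun α x))))))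
      rw [autFun_inv_apply' α hxT, autFun_inv_apply' α (hfT x hx), e x hx]

/-- `f` is an element `α` of the automizer of `T` after a generated map. -/
def Lab (F : FusionSystem S) (T : Subgroup Ω) (ℋ : Set (Subgroup Ω))
    (X : ∀ Q : Subgroup Ω, Subgroup (MulAut Q)) (P : Subgroup Ω) (f : Ω → Ω) (α : MulAut T) :
    Prop :=
  α ∈ F.autGroup T ∧ ∃ g, Gen ℋ X P g ∧ ∀ x ∈ P, f x = autFun α (g x)

namespace Lab

variable {P R : Subgroup Ω} {f g : Ω → Ω} {α β : MulAut T}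

theorem congr (h : Lab F T ℋ X P f α) {f' : Ω → Ω} (e : ∀ x ∈ P, f' x = f x) :
    Lab F T ℋ X P f' α :=
  let ⟨hα, g, hg, eg⟩ := h
  ⟨hα, g, hg, fun x hx => (e x hx).trans (eg x hx)⟩

theorem mono (h : Lab F T ℋ X P f α) (hR : R ≤ P) : Lab F T ℋ X R f α :=
  let ⟨hα, g, hg, eg⟩ := h
  ⟨hα, g, hg.mono hR, fun x hx => eg x (hR hx)⟩

theorem isMap (hX : Fam F T p ℋ X) (h : Lab F T ℋ X P f α) : IsMap F P f := by
  obtain ⟨hα, g, hg, eg⟩ := h
  exact ((hg.isMap hX).1.comp (hX.top_map hα)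
    fun x hx => hX.apply_mem (hg.isMap hX).1 (hg.isMap hX).2 hx).congr eg

theorem le (hX : Fam F T p ℋ X) (h : Lab F T ℋ X P f α) : P ≤ T :=
  let ⟨_, _, hg, _⟩ := h
  (hg.isMap hX).2

theorem of_gen [Finite S] (hX : Fam F T p ℋ X) (h : Gen ℋ X P f) : Lab F T ℋ X P f 1 :=
  ⟨one_mem _, f, h, fun x hx => (autFun_one (hX.apply_mem (h.isMap hX).1 (h.isMap hX).2 hx)).symm⟩

theorem of_aut [Finite S] (hX : Fam F T p ℋ X) (hP : P ≤ T) (hα : α ∈ F.autGroup T) :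
    Lab F T ℋ X P (autFun α) α :=
  ⟨hα, id, Gen.id_map hX hP, fun _ _ => rfl⟩

theorem comp [Finite S] (hX : Fam F T p ℋ X) (h : Lab F T ℋ X P f α) (h' : Lab F T ℋ X R g β)
    (hm : ∀ x ∈ P, f x ∈ R) : Lab F T ℋ X P (g ∘ f) (β * α) := by
  obtain ⟨hα, a, ha, ea⟩ := h
  obtain ⟨hβ, b, hb, eb⟩ := h'
  have haT : ∀ x ∈ P, a x ∈ T := fun x hx => hX.apply_mem (ha.isMap hX).1 (ha.isMap hX).2 hx
  have hb' := hb.transport hX ((F.autGroup T).inv_mem hα)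
  have hma : ∀ x ∈ P, a x ∈ img R (autFun α⁻¹) := fun x hx => by
    rw [← autFun_inv_apply' α (haT x hx), ← ea x hx]
    exact IsMap.apply_mem_img (hm x hx)
  refine ⟨mul_mem hβ hα, _, .comp ha hb' hma fun _ _ => rfl, fun x hx => ?_⟩
  show g (f x) = autFun (β * α) (autFun α⁻¹ (b (autFun α⁻¹⁻¹ (a x))))
  have hbT : b (f x) ∈ T := hX.apply_mem (hb.isMap hX).1 (hb.isMap hX).2 (hm x hx)
  rw [inv_inv, ← ea x hx, autFun_mul _ _ (autFun_mem _ hbT), autFun_inv_apply α hbT,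
    eb _ (hm x hx)]

theorem inv [Finite S] (hX : Fam F T p ℋ X) (h : Lab F T ℋ X P f α) {k : Ω → Ω}
    (hk : ∀ x ∈ P, k (f x) = x) : Lab F T ℋ X (img P f) k α⁻¹ := by
  have hf := h.isMap hX
  obtain ⟨hα, a, ha, ea⟩ := h
  obtain ⟨l, hl, el⟩ := ha.inv hX
  have ham := (ha.isMap hX)
  have haT : ∀ x ∈ P, a x ∈ T := fun x hx => hX.apply_mem ham.1 ham.2 hx
  have hle : img P f ≤ img (img P a) (autFun α) := IsMap.img_le_iff.mpr fun x hx => by
    rw [ea x hx]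
    exact IsMap.apply_mem_img (IsMap.apply_mem_img hx)
  refine ⟨(F.autGroup T).inv_mem hα, _, (hl.transport hX hα).mono hle, fun y hy => ?_⟩
  obtain ⟨x, hx, rfl⟩ := hf.mem_img.mp hy
  show k (f x) = autFun α⁻¹ (autFun α (l (autFun α⁻¹ (f x))))
  rw [hk x hx, ea x hx, autFun_inv_apply' α (haT x hx), el x hx,
    autFun_inv_apply' α (ham.2 hx)]

end Lab

/-- The labels of the identity of `Q`. -/
def labGroup [Finite S] (hX : Fam F T p ℋ X) (Q : Subgroup Ω) (hQ : Q ≤ T) :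
    Subgroup (MulAut T) where
  carrier := {α | Lab F T ℋ X Q id α}
  one_mem' := Lab.of_gen hX (Gen.id_map hX hQ)
  mul_mem' := fun {a b} ha hb => (Lab.comp hX hb ha fun _ hx => hx : Lab F T ℋ X Q (id ∘ id) (a * b))
  inv_mem' := fun {a} ha => by
    have h := Lab.inv hX ha (k := id) fun _ _ => rfl
    rwa [img_id] at h

variable [Finite S]

theorem mem_labGroup {hX : Fam F T p ℋ X} {Q : Subgroup Ω} {hQ : Q ≤ T} {α : MulAut T} :
    α ∈ labGroup hX Q hQ ↔ Lab F T ℋ X Q id α := Iff.rfl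

theorem top_le_labGroup (hX : Fam F T p ℋ X) {Q : Subgroup Ω} (hQ : Q ≤ T) {α : MulAut T}
    (hα : α ∈ X T) : Lab F T ℋ X Q id α :=
  ⟨hX.le T hX.top hα, autFun α⁻¹, .base hX.top ((X T).inv_mem hα) hQ fun _ _ => rfl,
    fun x hx => (autFun_inv_apply α (hQ hx)).symm⟩

/-- Two labels of a map differ by a label of the identity of the target. -/
theorem Lab.unique (hX : Fam F T p ℋ X) {P : Subgroup Ω} {f : Ω → Ω} {α β : MulAut T}
    (h : Lab F T ℋ X P f α) (h' : Lab F T ℋ X P f β) :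
    Lab F T ℋ X (img P f) id (β * α⁻¹) := by
  obtain ⟨k, hk, -, hkl, -⟩ := (h.isMap hX).exists_inv
  have hm : ∀ y ∈ img P f, k y ∈ P := fun y hy => by
    obtain ⟨x, hx, rfl⟩ := (h.isMap hX).mem_img.mp hy
    rwa [hkl x hx]
  refine (Lab.comp hX (h.inv hX hkl) h' hm).congr fun y hy => ?_
  obtain ⟨x, hx, rfl⟩ := (h.isMap hX).mem_img.mp hy
  show f x = f (k (f x))
  rw [hkl x hx]

end Cfsg.Lib.Fusion.NFam
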