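import Cfsg.Agent.Fusion.NormalFamily.Fiber

/-!
Normal families: automorphisms of a fully normalized member extended to subgroups of its
normalizer, and a best position for a subgroup of the induced automorphisms.
-/

set_option autoImplicit false
set_option linter.unusedSectionVars false
set_option linter.style.haveILetI false

namespace Cfsg.Lib.Fusion.NFam

open Cfsg Cfsg.FusionSystem Cfsg.Lib.Fusion

universe u

variable {Ω : Type u} [Group Ω] {S T : Subgroup Ω} {F : FusionSystem S} {p : ℕ}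
  {ℋ : Set (Subgroup Ω)} {X : ∀ Q : Subgroup Ω, Subgroup (MulAut Q)} {Q : Subgroup Ω}

/-- The elements of `N_T(Q)` inducing members of `A`. -/
def pre (T : Subgroup Ω) {Q : Subgroup Ω} (A : Subgroup (MulAut Q)) : Subgroup Ω :=
  (A.comap (normalizerInHom T Q)).map (normalizerIn T Q).subtype

theorem mem_pre {A : Subgroup (MulAut Q)} {t : Ω} :
    t ∈ pre T A ↔ ∃ ht : t ∈ normalizerIn T Q, conjAut Q t ht.2 ∈ A := by
  constructor
  · rintro ⟨⟨t, ht⟩, h, rfl⟩
    exact ⟨ht, h⟩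
  · rintro ⟨ht, h⟩
    exact ⟨⟨t, ht⟩, h, rfl⟩

theorem pre_le {A : Subgroup (MulAut Q)} : pre T A ≤ normalizerIn T Q :=
  Subgroup.map_subtype_le _

theorem conjAut_mem_conj {t u : Ω} (ht : t ∈ Subgroup.normalizer (Q : Set Ω))
    (hu : u ∈ Subgroup.normalizer (Q : Set Ω))
    (h : u * t * u⁻¹ ∈ Subgroup.normalizer (Q : Set Ω)) :
    conjAut Q (u * t * u⁻¹) h = conjAut Q u hu * conjAut Q t ht * (conjAut Q u hu)⁻¹ := by
  rw [eq_mul_inv_iff_mul_eq]
  refine MulEquiv.ext fun x => Subtype.ext ?_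
  show u * t * u⁻¹ * ((conjAut Q u hu x : Q) : Ω) * (u * t * u⁻¹)⁻¹ =
    ((conjAut Q u hu (conjAut Q t ht x) : Q) : Ω)
  rw [conjAut_apply, conjAut_apply, conjAut_apply]
  group

theorem le_normalizer_pre {A : Subgroup (MulAut Q)} {t : Ω} (ht : t ∈ normalizerIn T Q)
    (h : ∀ a ∈ A, conjAut Q t ht.2 * a * (conjAut Q t ht.2)⁻¹ ∈ A) [Finite (pre T A)] :
    t ∈ Subgroup.normalizer ((pre T A : Subgroup Ω) : Set Ω) :=
  mem_normalizer_of_maps_finite fun u hu => by
    obtain ⟨hu', hua⟩ := mem_pre.mp hu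
    have h1 := (normalizerIn T Q).mul_mem ((normalizerIn T Q).mul_mem ht hu')
      ((normalizerIn T Q).inv_mem ht)
    exact mem_pre.mpr ⟨h1, conjAut_mem_conj hu'.2 ht.2 h1.2 ▸ h _ hua⟩

variable [Finite S] [Fact p.Prime]

/-- An automorphism carrying induced automorphisms of `M` into those of `T` extends to `M`. -/
theorem exists_ext_of (hS : IsPGroup p S) (hF : F.IsSaturated p) (hX : Fam F T p ℋ X)
    (hn : F.IsFullyNormalized Q) {y : MulAut Q} (hy : y ∈ F.autGroup Q) {M : Subgroup Ω}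
    (hQM : Q ≤ M) (hM : M ≤ normalizerIn T Q)
    (hyM : ∀ α ∈ autInducedBy M Q, y * α * y⁻¹ ∈ autInducedBy T Q) :
    ∃ g, IsMap F M g ∧ (∀ z ∈ Q, g z = autFun y z) ∧ ∀ t, t ∈ M →
      ∀ (ht : t ∈ Subgroup.normalizer (Q : Set Ω)), ∃ hg : g t ∈ normalizerIn T Q,
        conjAut Q (g t) hg.2 = y * conjAut Q t ht * y⁻¹ := by
  obtain ⟨-, -, hrec⟩ := fullyNormalized_props hS hF hn
  have hm := (isMap_autFun hn.1).mpr hy
  obtain ⟨g, hg, eg⟩ := receptive_extend hrec hm (img_autFun y)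
  have hle : M ≤ extSub S Q (autFun y) := fun t ht => by
    obtain ⟨s, hs, es⟩ := mem_autInducedBy.mp (hyM _ (conjAut_mem_autInducedBy (hM ht).2 ht))
    refine mem_extSub.mpr ⟨hX.le_S (hM ht).1, (hM ht).2, s, hX.le_S hs, fun x hx => ?_⟩
    rw [← es ⟨autFun y x, autFun_mem y hx⟩,
      ← autFun_apply (y * conjAut Q t (hM ht).2 * y⁻¹) ⟨_, autFun_mem y hx⟩, ← autFun_mul _ y hx,
      inv_mul_cancel_right, autFun_mul _ _ hx, autFun_apply_mem _ hx, conjAut_apply]
  have hg' := hg.mono hle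
  refine ⟨g, hg', eg, fun t ht htn => ?_⟩
  have hgt := mem_normalizerIn_of hX hg' hQM hM (fun z hz => eg z hz ▸ autFun_mem y hz) ht
  refine ⟨hgt, eq_of_autFun fun z hz => ?_⟩
  have hy' := autFun_mem y⁻¹ hz
  rw [autFun_mul _ _ hz, autFun_mul _ _ (autFun_mem _ hz), autFun_apply_mem _ hz, conjAut_apply,
    autFun_apply_mem (conjAut Q t htn) hy', conjAut_apply,
    ← eg _ (conj_mem_of_mem_normalizer htn hy'), hg'.map_conj ht (hQM hy'), eg _ hy',
    autFun_inv_apply y hz]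

/-- The image of the preimage of `A` under an extension is the preimage of the image. -/
theorem img_pre (hX : Fam F T p ℋ X) (hQ : Q ∈ ℋ) {y : MulAut Q} {g : Ω → Ω} {H : Subgroup Ω}
    (hg : IsMap F H g) (hQH : Q ≤ H) (hH : H ≤ normalizerIn T Q)
    (eg : ∀ z ∈ Q, g z = autFun y z)
    (hgc : ∀ t, t ∈ H → ∀ (ht : t ∈ Subgroup.normalizer (Q : Set Ω)),
      ∃ hg : g t ∈ normalizerIn T Q, conjAut Q (g t) hg.2 = y * conjAut Q t ht * y⁻¹) :
    img H g = pre T ((autInducedBy H Q).map (MulAut.conj y).toMonoidHom) := by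
  refine le_antisymm (IsMap.img_le_iff.mpr fun t ht => ?_) fun s hs => ?_
  · obtain ⟨hgt, e⟩ := hgc t ht (hH ht).2
    exact mem_pre.mpr ⟨hgt, _, conjAut_mem_autInducedBy (hH ht).2 ht, e.symm⟩
  · obtain ⟨hs', a, ha, ea⟩ := mem_pre.mp hs
    obtain ⟨t, ht, et⟩ := mem_autInducedBy.mp ha
    obtain ⟨hgt, e⟩ := hgc t ht (hH ht).2
    have hat : a = conjAut Q t (hH ht).2 :=
      MulEquiv.ext fun x => Subtype.ext (by rw [et, conjAut_apply])
    have hcs : (g t)⁻¹ * s ∈ centralizerIn T Q := Fusion.mem_centralizerIn.mpr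
      ⟨T.mul_mem (T.inv_mem hgt.1) hs'.1, fun z hz => by
        have h1 : (conjAut Q s hs'.2 : MulAut Q) = conjAut Q (g t) hgt.2 := by
          rw [e, ← hat]; exact ea.symm
        have h2 := congrArg (fun β : MulAut Q => ((β ⟨z, hz⟩ : Q) : Ω)) h1
        simp only [conjAut_apply] at h2
        calc (g t)⁻¹ * s * z * ((g t)⁻¹ * s)⁻¹ = (g t)⁻¹ * (s * z * s⁻¹) * g t := by group
          _ = z := by rw [h2]; group⟩
    haveI := finite_of_le hX.le_S
    haveI := finite_of_le (hX.sub Q hQ)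
    have hQi : img Q g = Q := img_eq_of_apply (hg.mono hQH) le_rfl
      fun z hz => eg z hz ▸ autFun_mem y hz
    have h4 : (g t)⁻¹ * s ∈ img H g := img_mono hQH g (hQi.symm ▸ hX.centric Q hQ hcs)
    have := Subgroup.mul_mem _ (IsMap.apply_mem_img ht) h4
    rwa [mul_inv_cancel_left] at this

/-- The induced automorphisms are maximal `p`-subgroups of the family. -/
theorem exists_conj_induced (hS : IsPGroup p S) (hF : F.IsSaturated p) (hX : Fam F T p ℋ X)
    (hQ : Q ∈ ℋ) (hn : F.IsFullyNormalized Q) {W : Subgroup (MulAut Q)} (hW : W ≤ X Q)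
    (hWp : IsPGroup p W) :
    ∃ z ∈ X Q, ∀ w ∈ W, z * w * z⁻¹ ∈ autInducedBy T Q := by
  set G := F.autGroup Q
  set N := (X Q).subgroupOf G
  obtain ⟨V, hV⟩ : ∃ V : Sylow p N, (V : Subgroup N).map N.subtype =
      (autInducedBy T Q).subgroupOf G := exists_sylow hS hF hX hQ hn
  haveI := finite_of_le hn.1
  haveI : Finite (MulAut Q) := Finite.of_injective
    (fun f : MulAut Q => (f : Q → Q)) DFunLike.coe_injective
  let W₀ : Subgroup N := (W.subgroupOf G).subgroupOf N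
  have hW₀ : IsPGroup p W₀ :=
    (hWp.comap_of_injective _ (Subgroup.subtype_injective _)).comap_of_injective _
      (Subgroup.subtype_injective _)
  obtain ⟨V', hV'⟩ := hW₀.exists_le_sylow
  obtain ⟨z, hz⟩ := MulAction.exists_smul_eq N V' V
  refine ⟨((z : G) : MulAut Q), z.2, fun w hw => ?_⟩
  let w₀ : N := ⟨⟨w, hX.le Q hQ (hW hw)⟩, hW hw⟩
  have h1 : z * w₀ * z⁻¹ ∈ ((z • V' : Sylow p N) : Subgroup N) := ⟨w₀, hV' hw, rfl⟩
  rw [hz] at h1
  exact hV.le ⟨z * w₀ * z⁻¹, h1, rfl⟩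

/-- A best position: there the induced automorphisms are a Sylow subgroup of the normalizer. -/
theorem exists_best (hS : IsPGroup p S) (hF : F.IsSaturated p) (hX : Fam F T p ℋ X)
    (hQ : Q ∈ ℋ) (hn : F.IsFullyNormalized Q) {A : Subgroup (MulAut Q)}
    (hA : A ≤ autInducedBy T Q) :
    ∃ y ∈ X Q, A.map (MulAut.conj y).toMonoidHom ≤ autInducedBy T Q ∧
      ∃ V : Sylow p ↥(X Q ⊓
          Subgroup.normalizer ((A.map (MulAut.conj y).toMonoidHom : Subgroup (MulAut Q)) : Set (MulAut Q))),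
        ∀ v ∈ V.toSubgroup, (v : MulAut Q) ∈ autInducedBy T Q := by
  haveI := finite_of_le hn.1
  haveI : Finite (MulAut Q) := Finite.of_injective
    (fun f : MulAut Q => (f : Q → Q)) DFunLike.coe_injective
  set U := autInducedBy T Q
  let size : MulAut Q → ℕ := fun y => Nat.card
    ↥(U ⊓ Subgroup.normalizer ((A.map (MulAut.conj y).toMonoidHom : Subgroup (MulAut Q)) : Set (MulAut Q)))
  obtain ⟨y, ⟨hy, hyU⟩, hmax⟩ := Set.exists_max_image
    {y : MulAut Q | y ∈ X Q ∧ A.map (MulAut.conj y).toMonoidHom ≤ U} size (Set.toFinite _)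
    ⟨1, one_mem _, by rintro _ ⟨a, ha, rfl⟩; simpa using hA ha⟩
  refine ⟨y, hy, hyU, ?_⟩
  set A' := A.map (MulAut.conj y).toMonoidHom
  set J := X Q ⊓ Subgroup.normalizer (A' : Set (MulAut Q))
  have hUp : IsPGroup p U := (isPGroup_autInducedBy hS Q).to_le (autInducedBy_mono hX.le_S)
  set V₀ : Subgroup J := U.subgroupOf J
  have hV₀ : IsPGroup p V₀ := hUp.comap_of_injective _ (Subgroup.subtype_injective _)
  obtain ⟨V, hV⟩ := hV₀.exists_le_sylow
  refine ⟨V, fun v hv => ?_⟩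
  obtain ⟨z, hz, hzV⟩ := exists_conj_induced hS hF hX hQ hn
    (W := (V : Subgroup J).map J.subtype) ((Subgroup.map_subtype_le _).trans inf_le_left)
    (V.2.map _)
  have hA'J : A' ≤ J := le_inf (hyU.trans (hX.ind Q hQ)) Subgroup.le_normalizer
  -- `A'` lies in the Sylow subgroup
  have hA'V : ∀ a ∈ A', ∀ h : a ∈ J, (⟨a, h⟩ : J) ∈ (V : Subgroup J) :=
    fun a ha h => hV (show (⟨a, h⟩ : J) ∈ V₀ from hyU ha)
  have hle : (A.map (MulAut.conj (z * y)).toMonoidHom) ≤ U := by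
    rintro _ ⟨a, ha, rfl⟩
    have h1 : y * a * y⁻¹ ∈ A' := ⟨a, ha, rfl⟩
    have := hzV _ ⟨⟨_, hA'J h1⟩, hA'V _ h1 (hA'J h1), rfl⟩
    simpa [mul_assoc] using this
  have hsize := hmax (z * y) ⟨mul_mem hz hy, hle⟩
  have himg : ∀ w : (V : Subgroup J), z * ((w : J) : MulAut Q) * z⁻¹ ∈
      U ⊓ Subgroup.normalizer ((A.map (MulAut.conj (z * y)).toMonoidHom : Subgroup (MulAut Q)) : Set (MulAut Q)) := by
    intro w
    refine ⟨hzV _ ⟨(w : J), w.2, rfl⟩, ?_⟩
    refine Subgroup.mem_normalizer_iff.mpr fun b => ?_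
    have hn' := Subgroup.mem_normalizer_iff.mp (w : J).2.2 (z⁻¹ * b * z)
    have key : ∀ c : MulAut Q,
        c ∈ A.map (MulAut.conj (z * y)).toMonoidHom ↔ z⁻¹ * c * z ∈ A' := fun c => by
      constructor
      · rintro ⟨a, ha, rfl⟩
        exact ⟨a, ha, by simp [mul_assoc]⟩
      · rintro ⟨a, ha, e⟩
        refine ⟨a, ha, ?_⟩
        have : c = z * (z⁻¹ * c * z) * z⁻¹ := by group
        rw [this, ← e]
        simp [mul_assoc]
    rw [key, key, hn',
      show ((w : J) : MulAut Q) * (z⁻¹ * b * z) * ((w : J) : MulAut Q)⁻¹ =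
        z⁻¹ * (z * ((w : J) : MulAut Q) * z⁻¹ * b * (z * ((w : J) : MulAut Q) * z⁻¹)⁻¹) * z by
          group]
  have hsub : ∀ u : ↥(U ⊓ Subgroup.normalizer (A' : Set (MulAut Q))),
      (⟨u, hX.ind Q hQ u.2.1, u.2.2⟩ : J) ∈ (V : Subgroup J) := fun u => hV u.2.1
  have hcard : Nat.card (V : Subgroup J) ≤
      Nat.card ↥(U ⊓ Subgroup.normalizer (A' : Set (MulAut Q))) :=
    (Nat.card_le_card_of_injective (fun w => (⟨_, himg w⟩ : ↥(U ⊓ _)))
      fun a b e => Subtype.ext (Subtype.ext (mul_left_cancel (mul_right_cancel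
        (congrArg Subtype.val e))))).trans hsize
  obtain ⟨u, hu⟩ := (Nat.bijective_iff_injective_and_card
    (fun u : ↥(U ⊓ Subgroup.normalizer (A' : Set (MulAut Q))) =>
      (⟨_, hsub u⟩ : (V : Subgroup J)))).mpr
    ⟨fun a b e => Subtype.ext (congrArg (fun w : (V : Subgroup J) => ((w : J) : MulAut Q)) e),
      le_antisymm (Nat.card_le_card_of_injective
        (fun u : ↥(U ⊓ Subgroup.normalizer (A' : Set (MulAut Q))) =>
          (⟨_, hsub u⟩ : (V : Subgroup J))) fun a b e =>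
        Subtype.ext (congrArg (fun w : (V : Subgroup J) => ((w : J) : MulAut Q)) e)) hcard⟩
    |>.2 ⟨v, hv⟩
  have e : (u : MulAut Q) = (v : MulAut Q) :=
    congrArg (fun w : (V : Subgroup J) => ((w : J) : MulAut Q)) hu
  exact e ▸ u.2.1

end Cfsg.Lib.Fusion.NFam
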