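import Cfsg.Agent.Fusion.NormalFamily.Frattini
import Cfsg.Agent.Fusion.NormalCentralizer.Realize
import Cfsg.Agent.Fusion.FactorHyperfocal

/-!
Normal families: the automorphisms of a normalizer which fix a fully normalized member.
-/

set_option autoImplicit false
set_option linter.unusedSectionVars false
set_option linter.style.haveILetI false

namespace Cfsg.Lib.Fusion.NFam

open Cfsg Cfsg.FusionSystem Cfsg.Lib.Fusion

universe u

variable {Ω : Type u} [Group Ω] {S T : Subgroup Ω} {F : FusionSystem S} {p : ℕ}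
  {ℋ : Set (Subgroup Ω)} {X : ∀ Q : Subgroup Ω, Subgroup (MulAut Q)} {Q : Subgroup Ω}

/-- A label of an automorphism of `N_T(Q)` fixing `Q`. -/
def InW (F : FusionSystem S) (T : Subgroup Ω) (ℋ : Set (Subgroup Ω))
    (X : ∀ Q : Subgroup Ω, Subgroup (MulAut Q)) (Q : Subgroup Ω) (c : MulAut T) : Prop :=
  ∃ e, Lab F T ℋ X (normalizerIn T Q) e c ∧ ∀ x ∈ Q, e x = x

theorem mem_normalizerIn_of (hX : Fam F T p ℋ X) [Finite S] {M : Subgroup Ω} {f : Ω → Ω}
    (hf : IsMap F M f) (hQM : Q ≤ M) (hM : M ≤ normalizerIn T Q) (hQ : ∀ x ∈ Q, f x ∈ Q)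
    {x : Ω} (hx : x ∈ M) : f x ∈ normalizerIn T Q := by
  haveI := finite_of_le hX.le_S
  have hQT : Q ≤ T := hQM.trans (hM.trans inf_le_left)
  haveI := finite_of_le hQT
  have h1 := hf.mem_normalizerIn (P := Q) hQM hx (hM hx).2
  rw [img_eq_of_apply hf hQM hQ] at h1
  exact ⟨stronglyClosed_apply hX.sc hf hx (hM hx).1, h1.2⟩

theorem img_normalizer [Finite S] (hX : Fam F T p ℋ X) (hQT : Q ≤ T) {h : Ω → Ω}
    (hh : IsMap F (normalizerIn T Q) h) (hQ : ∀ x ∈ Q, h x ∈ Q) :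
    img (normalizerIn T Q) h = normalizerIn T Q :=
  haveI := finite_of_le hX.le_S
  haveI : Finite (normalizerIn T Q) := finite_of_le inf_le_left
  img_eq_of_apply hh le_rfl fun _ hx =>
    mem_normalizerIn_of hX hh (le_normalizerIn hQT) le_rfl hQ hx

variable [Finite S]

theorem InW.mul (hX : Fam F T p ℋ X) (hQT : Q ≤ T) {c d : MulAut T} (hc : InW F T ℋ X Q c)
    (hd : InW F T ℋ X Q d) : InW F T ℋ X Q (c * d) := by
  obtain ⟨e, he, ee⟩ := hc
  obtain ⟨e', he', ee'⟩ := hd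
  refine ⟨e ∘ e', Lab.comp hX he' he fun x hx =>
    mem_normalizerIn_of hX (he'.isMap hX) (le_normalizerIn hQT) le_rfl
      (fun y hy => by rw [ee' y hy]; exact hy) hx, fun x hx => ?_⟩
  show e (e' x) = x
  rw [ee' x hx, ee x hx]

theorem InW.inv (hX : Fam F T p ℋ X) (hQT : Q ≤ T) {c : MulAut T} (hc : InW F T ℋ X Q c) :
    InW F T ℋ X Q c⁻¹ := by
  obtain ⟨e, he, ee⟩ := hc
  obtain ⟨k, -, -, hkl, -⟩ := (he.isMap hX).exists_inv
  have hk := he.inv hX hkl
  rw [img_normalizer hX hQT (he.isMap hX) fun y hy => by rw [ee y hy]; exact hy] at hk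
  refine ⟨k, hk, fun x hx => ?_⟩
  conv_lhs => rw [← ee x hx]
  exact hkl x (le_normalizerIn hQT hx)

theorem InW.conj (hX : Fam F T p ℋ X) (hQT : Q ≤ T) {h : Ω → Ω} {b c : MulAut T}
    (hb : Lab F T ℋ X (normalizerIn T Q) h b) (hhQ : ∀ x ∈ Q, h x ∈ Q) (hc : InW F T ℋ X Q c) :
    InW F T ℋ X Q (b⁻¹ * c * b) := by
  obtain ⟨e, he, ee⟩ := hc
  obtain ⟨k, -, -, hkl, -⟩ := (hb.isMap hX).exists_inv
  have hk := hb.inv hX hkl
  rw [img_normalizer hX hQT (hb.isMap hX) hhQ] at hk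
  have hm : ∀ x ∈ normalizerIn T Q, h x ∈ normalizerIn T Q := fun x hx =>
    mem_normalizerIn_of hX (hb.isMap hX) (le_normalizerIn hQT) le_rfl hhQ hx
  have hem : ∀ x ∈ normalizerIn T Q, e (h x) ∈ normalizerIn T Q := fun x hx =>
    mem_normalizerIn_of hX (he.isMap hX) (le_normalizerIn hQT) le_rfl
      (fun y hy => by rw [ee y hy]; exact hy) (hm x hx)
  refine ⟨k ∘ (e ∘ h), ?_, fun x hx => ?_⟩
  · rw [mul_assoc]
    exact Lab.comp hX (Lab.comp hX hb he hm) hk hem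
  · show k (e (h x)) = x
    rw [ee _ (hhQ x hx), hkl x (le_normalizerIn hQT hx)]

theorem InW.conj' (hX : Fam F T p ℋ X) (hQT : Q ≤ T) {h : Ω → Ω} {b c : MulAut T}
    (hb : Lab F T ℋ X (normalizerIn T Q) h b) (hhQ : ∀ x ∈ Q, h x ∈ Q) (hc : InW F T ℋ X Q c) :
    InW F T ℋ X Q (b * c * b⁻¹) := by
  haveI := finite_of_le hX.le_S
  haveI := finite_of_le hQT
  obtain ⟨k, -, -, hkl, -⟩ := (hb.isMap hX).exists_inv
  have hk := hb.inv hX hkl
  rw [img_normalizer hX hQT (hb.isMap hX) hhQ] at hk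
  have h1 := InW.conj hX hQT hk (fun x hx => ?_) hc
  · rwa [inv_inv] at h1
  · have hhm := (hb.isMap hX).mono (le_normalizerIn hQT)
    have hhi : img Q h = Q := img_eq_of_apply hhm le_rfl hhQ
    obtain ⟨y, hy, rfl⟩ := hhm.mem_img.mp (hhi.symm ▸ hx : x ∈ img Q h)
    rw [hkl y (le_normalizerIn hQT hy)]
    exact hy

variable [Fact p.Prime]

/-- A group is generated by a Sylow subgroup and the elements of order prime to `p`. -/
theorem le_of_sylow_coprime {G : Type*} [Group G] [Finite G] (V : Sylow p G) {J : Subgroup G}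
    (hV : (V : Subgroup G) ≤ J) (hc : ∀ g : G, (orderOf g).Coprime p → g ∈ J) : J = ⊤ := by
  obtain ⟨k, hk⟩ := Cfsg.Lib.Transfer.exists_index_pResidual (p := p) (G := G)
  refine le_antisymm le_top ?_
  rw [← Cfsg.Lib.Transfer.sup_sylow_eq_top hk V]
  exact sup_le ((Subgroup.closure_le _).mpr fun x hx => hc x hx) hV

/-- An element of order prime to `p` extending to a subgroup comes from the family there. -/
theorem exists_coprime_member (hX : Fam F T p ℋ X) {R : Subgroup Ω} (hQ : Q ∈ ℋ) (hQR : Q ≤ R)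
    (hRT : R ≤ T) {x : MulAut Q} (hx : x ∈ X Q) (hxp : (orderOf x).Coprime p) {g : Ω → Ω}
    (hg : IsMap F R g) (hgR : ∀ y ∈ R, g y ∈ R) (e : ∀ y ∈ Q, g y = autFun x y) :
    ∃ d ∈ X R, ∀ y ∈ Q, autFun d y = autFun x y := by
  haveI := finite_of_le hX.le_S
  haveI := finite_of_le hRT
  obtain ⟨μ, hμ, eμ⟩ := hg.exists_aut (img_eq_of_apply hg le_rfl hgR)
  obtain ⟨n, hn, en⟩ := NormCent.exists_coprime_agree (hRT.trans hX.le_S) hQR
    (fun y hy => (eμ y (hQR hy)).trans (e y hy)) hxp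
  exact ⟨μ ^ n, hX.ext Q R hQ hQR hRT _ (pow_mem hμ n) hn x hx fun y hy => (en y hy).symm, en⟩

/-- A member of the family normalizing the induced automorphisms of a subgroup `M` of `N_T(Q)`
containing their Sylow subgroup lifts to the family at `M`. -/
theorem exists_lift_member (hS : IsPGroup p S) (hF : F.IsSaturated p) (hX : Fam F T p ℋ X)
    (hQ : Q ∈ ℋ) (hn : F.IsFullyNormalized Q) {M : Subgroup Ω} (hQM : Q ≤ M)
    (hM : M ≤ normalizerIn T Q) {J : Subgroup (MulAut Q)} (hJ : J ≤ X Q)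
    (hJM : ∀ j ∈ J, ∀ α ∈ autInducedBy M Q, j * α * j⁻¹ ∈ autInducedBy M Q)
    (V : Sylow p J) {L : Subgroup Ω} (hL : L ≤ normalizerIn T Q)
    (hLM : ∀ l ∈ L, l ∈ Subgroup.normalizer (M : Set Ω))
    (hV : ∀ v ∈ (V : Subgroup J), (v : MulAut Q) ∈ autInducedBy L Q) {x : MulAut Q} (hx : x ∈ J) :
    ∃ d ∈ X M, ∀ y ∈ Q, autFun d y = autFun x y := by
  have hQT := hX.sub Q hQ
  have hMT : M ≤ T := hM.trans inf_le_left
  have hQS := hQT.trans hX.le_S
  haveI := finite_of_le hX.le_S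
  haveI := finite_of_le hMT
  haveI := finite_of_le hQT
  haveI : Finite (MulAut Q) := Finite.of_injective
    (fun f : MulAut Q => (f : Q → Q)) DFunLike.coe_injective
  have hMℋ := hX.up Q hQ M hQM hMT
  let J' : Subgroup J :=
    { carrier := {j | ∃ d ∈ X M, ∀ y ∈ Q, autFun d y = autFun (j : MulAut Q) y}
      one_mem' := ⟨1, one_mem _, fun y hy => by
        rw [autFun_one (hQM hy), Subgroup.coe_one, autFun_one hy]⟩
      mul_mem' := fun {a b} ⟨d, hd, ed⟩ ⟨d', hd', ed'⟩ => ⟨d * d', mul_mem hd hd', fun y hy => by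
        rw [autFun_mul _ _ (hQM hy), Subgroup.coe_mul, autFun_mul _ _ hy, ed' y hy,
          ed _ (autFun_mem _ hy)]⟩
      inv_mem' := fun {a} ⟨d, hd, ed⟩ => ⟨d⁻¹, (X M).inv_mem hd, fun y hy => by
        have h1 : autFun d (autFun (a : MulAut Q)⁻¹ y) = y := by
          rw [ed _ (autFun_mem _ hy), autFun_inv_apply _ hy]
        conv_lhs => rw [← h1]
        rw [autFun_inv_apply' d (hQM (autFun_mem _ hy)), Subgroup.coe_inv]⟩ }
  suffices J' = ⊤ from this.ge (Subgroup.mem_top (⟨x, hx⟩ : J))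
  refine le_of_sylow_coprime V (fun v hv => ?_) fun j hj => ?_
  · obtain ⟨l, hl, el⟩ := mem_autInducedBy.mp (hV v hv)
    refine ⟨conjAut M l (hLM l hl),
      hX.ind M hMℋ (conjAut_mem_autInducedBy _ (hL hl).1), fun y hy => ?_⟩
    rw [autFun_apply_mem _ (hQM hy), conjAut_apply, autFun_apply_mem _ hy]
    exact (el ⟨y, hy⟩).symm
  · obtain ⟨-, -, hrec⟩ := fullyNormalized_props hS hF hn
    have hm := (isMap_autFun hQS).mpr (hX.le Q hQ (hJ j.2))
    obtain ⟨g, hg, eg⟩ := receptive_extend hrec hm (img_autFun _)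
    have hle : M ≤ extSub S Q (autFun (j : MulAut Q)) := fun t ht => by
      obtain ⟨s, hs, es⟩ := mem_autInducedBy.mp (hJM j j.2 _
        (conjAut_mem_autInducedBy (hM ht).2 ht))
      refine mem_extSub.mpr ⟨hX.le_S (hMT ht), (hM ht).2, s, hX.le_S (hMT hs), fun y hy => ?_⟩
      rw [← es ⟨autFun (j : MulAut Q) y, autFun_mem _ hy⟩,
        ← autFun_apply ((j : MulAut Q) * conjAut Q t (hM ht).2 * (j : MulAut Q)⁻¹) ⟨_, autFun_mem _ hy⟩,
        ← autFun_mul _ (j : MulAut Q) hy, inv_mul_cancel_right, autFun_mul _ _ hy,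
        autFun_apply_mem _ hy, conjAut_apply]
    have hg' := hg.mono hle
    refine exists_coprime_member hX hQ hQM hMT (hJ j.2) ((Subgroup.orderOf_coe j).symm ▸ hj) hg'
      (fun t ht => ?_) eg
    -- `g` stabilizes `M`
    obtain ⟨s, hs, es⟩ := mem_autInducedBy.mp (hJM j j.2 _
      (conjAut_mem_autInducedBy (hM ht).2 ht))
    have hgt := mem_normalizerIn_of hX hg' hQM hM (fun y hy => eg y hy ▸ autFun_mem _ hy) ht
    have hc : s⁻¹ * g t ∈ centralizerIn T Q := Fusion.mem_centralizerIn.mpr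
      ⟨T.mul_mem (T.inv_mem (hMT hs)) hgt.1, fun z hz => by
        have hy := autFun_mem (j : MulAut Q)⁻¹ hz
        have h1 := hg'.map_conj ht (hQM hy)
        rw [eg _ (conj_mem_of_mem_normalizer (hM ht).2 hy), eg _ hy, autFun_inv_apply _ hz] at h1
        have h2 := es ⟨z, hz⟩
        rw [← autFun_apply, autFun_mul _ _ hz, autFun_mul _ _ (autFun_mem _ hz),
          autFun_apply_mem (conjAut Q t (hM ht).2) hy, conjAut_apply, h1] at h2
        calc s⁻¹ * g t * z * (s⁻¹ * g t)⁻¹ = s⁻¹ * (g t * z * (g t)⁻¹) * s := by group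
          _ = z := by rw [h2]; group⟩
    have := M.mul_mem hs (hQM (hX.centric Q hQ hc))
    rwa [mul_inv_cancel_left] at this

end Cfsg.Lib.Fusion.NFam
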