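import Cfsg.Agent.Fusion.NormalFamily.Settled

/-!
Normal families: positions of a subgroup over a fully normalized member and the good maps.
-/

set_option autoImplicit false
set_option linter.unusedSectionVars false
set_option linter.style.haveILetI false

namespace Cfsg.Lib.Fusion.NFam

open Cfsg Cfsg.FusionSystem Cfsg.Lib.Fusion

universe u

variable {Ω : Type u} [Group Ω] {S T : Subgroup Ω} {F : FusionSystem S} {p : ℕ}
  {ℋ : Set (Subgroup Ω)} {X : ∀ Q : Subgroup Ω, Subgroup (MulAut Q)} {Q P : Subgroup Ω}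
  {f g : Ω → Ω} {α β : MulAut T}

/-- A labelled map carrying `N_T(P)` over `P` to `Q`. -/
def Pos (F : FusionSystem S) (T : Subgroup Ω) (ℋ : Set (Subgroup Ω))
    (X : ∀ Q : Subgroup Ω, Subgroup (MulAut Q)) (Q P : Subgroup Ω) (ω : Ω → Ω) (a : MulAut T) :
    Prop :=
  P ≤ T ∧ Lab F T ℋ X (normalizerIn T P) ω a ∧ img P ω = Q

/-- In every position the map is a member of the family after a map with the expected label. -/
def Good (F : FusionSystem S) (T : Subgroup Ω) (ℋ : Set (Subgroup Ω))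
    (X : ∀ Q : Subgroup Ω, Subgroup (MulAut Q)) (Q P : Subgroup Ω) (f : Ω → Ω) (α : MulAut T) :
    Prop :=
  ∀ ω a ω' a', Pos F T ℋ X Q P ω a → Pos F T ℋ X Q (img P f) ω' a' →
    ∃ x ∈ X Q, ∃ h, Lab F T ℋ X (normalizerIn T Q) h (a' * α * a⁻¹) ∧ (∀ z ∈ Q, h z ∈ Q) ∧
      ∀ y ∈ P, ω' (f y) = autFun x (h (ω y))

theorem Good.congr (h : Good F T ℋ X Q P f α) {f' : Ω → Ω} (e : ∀ y ∈ P, f' y = f y) :
    Good F T ℋ X Q P f' α := fun ω a ω' a' hω hω' => by
  rw [img_congr e] at hω'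
  obtain ⟨x, hx, k, hk, hkQ, ek⟩ := h ω a ω' a' hω hω'
  exact ⟨x, hx, k, hk, hkQ, fun y hy => (congrArg ω' (e y hy)).trans (ek y hy)⟩

variable [Finite S] [Fact p.Prime]

theorem exists_pos (hS : IsPGroup p S) (hF : F.IsSaturated p) (hX : Fam F T p ℋ X)
    (hn : F.IsFullyNormalized Q) (hPT : P ≤ T) (hc : F.IsConj P Q) :
    ∃ ω a, Pos F T ℋ X Q P ω a := by
  obtain ⟨f₀, hf₀, hi⟩ := isConj_iff.mp hc
  obtain ⟨-, hfa, hrec⟩ := fullyNormalized_props hS hF hn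
  obtain ⟨-, -, ω, hω, hωi, -, -⟩ := exists_map_normalizer hS hfa hrec hf₀ hi
  have hωT := hω.mono (R := normalizerIn T P) fun z hz => ⟨hX.le_S hz.1, hz.2⟩
  obtain ⟨a, ha⟩ := exists_lab hS hF hX inf_le_left hωT
  exact ⟨ω, a, hPT, ha, hωi⟩

theorem Pos.apply_mem {ω : Ω → Ω} {a : MulAut T} (hω : Pos F T ℋ X Q P ω a) {y : Ω}
    (hy : y ∈ P) : ω y ∈ Q := hω.2.2 ▸ IsMap.apply_mem_img hy

theorem Pos.mem_normalizer (hX : Fam F T p ℋ X) {ω : Ω → Ω} {a : MulAut T}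
    (hω : Pos F T ℋ X Q P ω a) {y : Ω} (hy : y ∈ normalizerIn T P) :
    ω y ∈ normalizerIn T Q := by
  have h1 := (hω.2.1.isMap hX).mem_normalizerIn (P := P) (le_normalizerIn hω.1) hy hy.2
  rw [hω.2.2] at h1
  exact ⟨hX.apply_mem (hω.2.1.isMap hX) inf_le_left hy, h1.2⟩

/-- Composites of good maps are good. -/
theorem Good.comp (hS : IsPGroup p S) (hF : F.IsSaturated p) (hX : Fam F T p ℋ X) (hQ : Q ∈ ℋ)
    (hn : F.IsFullyNormalized Q) (hP : F.IsConj P Q) (hPT : P ≤ T) (hf : IsMap F P f)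
    (hg : IsMap F (img P f) g) (h : Good F T ℋ X Q P f α) (h' : Good F T ℋ X Q (img P f) g β) :
    Good F T ℋ X Q P (g ∘ f) (β * α) := fun ω a ω'' a'' hω hω'' => by
  have hQT := hX.sub Q hQ
  haveI := finite_of_le hX.le_S
  haveI := finite_of_le hQT
  have hfT : img P f ≤ T := IsMap.img_le_iff.mpr fun y hy => hX.apply_mem hf hPT hy
  rw [img_comp hf hg] at hω''
  obtain ⟨ω', a', hω'⟩ := exists_pos hS hF hX hn hfT
    (isConj_trans (isConj_symm (isConj_iff.mpr ⟨f, hf, rfl⟩)) hP)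
  obtain ⟨x, hx, k, hk, hkQ, ek⟩ := h ω a ω' a' hω hω'
  obtain ⟨x', hx', k', hk', hkQ', ek'⟩ := h' ω' a' ω'' a'' hω' hω''
  have hk'm := (hk'.isMap hX).mono (le_normalizerIn hQT)
  obtain ⟨ν, hν, eν⟩ := hk'm.exists_aut (img_eq_of_apply hk'm le_rfl hkQ')
  have hm : ∀ z ∈ normalizerIn T Q, k z ∈ normalizerIn T Q := fun z hz =>
    mem_normalizerIn_of hX (hk.isMap hX) (le_normalizerIn hQT) le_rfl hkQ hz
  refine ⟨x' * (ν * x * ν⁻¹), mul_mem hx' (hX.normal hQ hν hx), k' ∘ k, ?_,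
    fun z hz => hkQ' _ (hkQ z hz), fun y hy => ?_⟩
  · convert Lab.comp hX hk hk' hm using 1
    group
  · have h1 : ω y ∈ Q := hω.apply_mem hy
    show ω'' (g (f y)) = autFun (x' * (ν * x * ν⁻¹)) (k' (k (ω y)))
    rw [ek' _ (IsMap.apply_mem_img hy), ek y hy, ← eν _ (autFun_mem x (hkQ _ h1)),
      ← eν _ (hkQ _ h1), ← autFun_mul _ _ (autFun_mem x (hkQ _ h1)),
      ← autFun_mul _ _ (hkQ _ h1), ← autFun_mul _ _ (hkQ _ h1)]
    congr 1
    group

/-- A map extending to a larger subgroup of `N_T(P)` is good. -/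
theorem good_of_ext (hS : IsPGroup p S) (hF : F.IsSaturated p) (hX : Fam F T p ℋ X)
    (hQ : Q ∈ ℋ) (hn : F.IsFullyNormalized Q) (hid : HighId F T ℋ X (Nat.card Q))
    {R : Subgroup Ω} (hPR : P < R) (hR : R ≤ normalizerIn T P) (hf : Lab F T ℋ X R f α) :
    Good F T ℋ X Q P f α := fun ω a ω' a' hω hω' => by
  have hQT := hX.sub Q hQ
  haveI := finite_of_le hX.le_S
  haveI := finite_of_le hQT
  have hfm := hf.isMap hX
  have hfN : ∀ z ∈ R, f z ∈ normalizerIn T (img P f) := fun z hz =>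
    ⟨hX.apply_mem hfm (hR.trans inf_le_left) hz, (hfm.mem_normalizerIn hPR.le hz (hR hz).2).2⟩
  have hωm := (hω.2.1.isMap hX).mono hR
  obtain ⟨k, -, -, hkl, -⟩ := hωm.exists_inv
  set H := img R ω
  have hωi : img P ω = Q := hω.2.2
  have hQH : Q ≤ H := hωi ▸ img_mono hPR.le ω
  have hH : H ≤ normalizerIn T Q :=
    IsMap.img_le_iff.mpr fun z hz => hω.mem_normalizer hX (hR hz)
  have hk := (hω.2.1.mono hR).inv hX hkl
  have hkm : ∀ z ∈ H, k z ∈ R := fun z hz => by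
    obtain ⟨w, hw, rfl⟩ := hωm.mem_img.mp hz
    rwa [hkl w hw]
  have hg₀ : Lab F T ℋ X H (ω' ∘ (f ∘ k)) (a' * α * a⁻¹) := by
    rw [mul_assoc]
    exact Lab.comp hX (Lab.comp hX hk hf hkm) hω'.2.1 fun z hz => hfN _ (hkm z hz)
  have hg₀m := hg₀.isMap hX
  have hkP : ∀ z ∈ Q, k z ∈ P := fun z hz => by
    rw [← hωi] at hz
    obtain ⟨w, hw, rfl⟩ := (hωm.mono hPR.le).mem_img.mp hz
    rwa [hkl w (hPR.le hw)]
  have hg₀Q : ∀ z ∈ Q, ω' (f (k z)) ∈ Q := fun z hz =>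
    hω'.apply_mem (IsMap.apply_mem_img (hkP z hz))
  obtain ⟨μ, hμ, eμ⟩ := (hg₀m.mono hQH).exists_aut
    (img_eq_of_apply (hg₀m.mono hQH) le_rfl hg₀Q)
  obtain ⟨x, hx, ν, hν, rfl, hnorm⟩ := exists_split hS hF hX hQ hn hμ
  obtain ⟨h, hh, eh, hhN⟩ := extend_split hS hF hX.sc hQT hn hν hnorm
  obtain ⟨b, hb⟩ := exists_lab hS hF hX inf_le_left hh
  have hhH := hh.mono hH
  obtain ⟨l, -, hli, hll, -⟩ := hhH.exists_inv
  have hgl : Lab F T ℋ X (img H h) ((ω' ∘ (f ∘ k)) ∘ l) (a' * α * a⁻¹ * b⁻¹) :=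
    Lab.comp hX ((hb.mono hH).inv hX hll) hg₀ fun z hz => hli ▸ IsMap.apply_mem_img hz
  have hhQ : ∀ z ∈ Q, h z ∈ Q := fun z hz => eh z hz ▸ autFun_mem ν hz
  have hhi : img Q h = Q := img_eq_of_apply (hhH.mono hQH) le_rfl hhQ
  have hlt : Nat.card Q < Nat.card (img H h) := by
    haveI : Finite R := finite_of_le (hR.trans inf_le_left)
    rw [hhH.card_img, hωm.card_img, ← hωi, (hωm.mono hPR.le).card_img]
    exact lt_of_le_of_ne (Subgroup.card_le_of_le hPR.le) fun e =>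
      hPR.ne (Subgroup.eq_of_le_of_card_ge hPR.le e.ge)
  obtain ⟨e, he, ee⟩ := settled hS hF hX hQ hn hid (img H h) hlt (hhi ▸ img_mono hQH h)
    (IsMap.img_le_iff.mpr fun z hz => hhN z (hH hz)) _ _ hgl x hx fun z hz => by
      obtain ⟨w, hw, rfl⟩ := (hhH.mono hQH).mem_img.mp (hhi.symm ▸ hz : z ∈ img Q h)
      show ω' (f (k (l (h w)))) = _
      have hμw := eμ w hw
      rw [autFun_mul _ _ hw] at hμw
      rw [hll w (hQH hw), eh w hw, hμw]
      rfl
  refine ⟨x, hx, e ∘ h, ?_, fun z hz => by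
      show e (h z) ∈ Q
      rw [ee _ (hhQ z hz)]
      exact hhQ z hz, fun y hy => ?_⟩
  · have := Lab.comp hX hb he hhN
    rwa [inv_mul_cancel_right] at this
  · have h1 : ω y ∈ Q := hω.apply_mem hy
    have hμy := eμ (ω y) h1
    rw [autFun_mul _ _ h1] at hμy
    show ω' (f y) = autFun x (e (h (ω y)))
    rw [ee _ (hhQ _ h1), eh _ h1, hμy]
    show ω' (f y) = ω' (f (k (ω y)))
    rw [hkl y (hPR.le hy)]

theorem lt_normalizer_of_lt (hS : IsPGroup p S) (hX : Fam F T p ℋ X) (hP : P < T) :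
    P < normalizerIn T P := by
  haveI := finite_of_le hX.le_S
  exact lt_normalizerIn (hS.of_injective _ (Subgroup.inclusion_injective hX.le_S)) hP

/-- Automorphisms of `T` are good below `T`. -/
theorem good_aut (hS : IsPGroup p S) (hF : F.IsSaturated p) (hX : Fam F T p ℋ X)
    (hQ : Q ∈ ℋ) (hn : F.IsFullyNormalized Q) (hid : HighId F T ℋ X (Nat.card Q))
    (hP : P < T) {γ : MulAut T} (hγ : γ ∈ F.autGroup T) :
    Good F T ℋ X Q P (autFun γ) γ :=
  good_of_ext hS hF hX hQ hn hid (lt_normalizer_of_lt hS hX hP) le_rfl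
    (Lab.of_aut hX inf_le_left hγ)

/-- Members of the family are good below `T`. -/
theorem good_member (hS : IsPGroup p S) (hF : F.IsSaturated p) (hX : Fam F T p ℋ X)
    (hQ : Q ∈ ℋ) (hn : F.IsFullyNormalized Q) (hid : HighId F T ℋ X (Nat.card Q))
    (hP : P < T) (hPℋ : P ∈ ℋ) {γ : MulAut P} (hγ : γ ∈ X P) :
    Good F T ℋ X Q P (autFun γ) 1 := fun ω a ω' a' hω hω' => by
  have hQT := hX.sub Q hQ
  haveI := finite_of_le hX.le_S
  haveI := finite_of_le hQT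
  rw [img_autFun] at hω'
  have hidl : Lab F T ℋ X (normalizerIn T P) id (1 : MulAut T) :=
    Lab.of_gen hX (Gen.id_map hX inf_le_left)
  obtain ⟨x, hx, h, hh, hhQ, eh⟩ :=
    good_of_ext hS hF hX hQ hn hid (lt_normalizer_of_lt hS hX hP) le_rfl hidl ω a ω' a' hω
      (by rwa [img_id])
  have hhm := (hh.isMap hX).mono (le_normalizerIn hQT)
  obtain ⟨ν, hν, eν⟩ := hhm.exists_aut (img_eq_of_apply hhm le_rfl hhQ)
  have hωm := (hω.2.1.isMap hX).mono (le_normalizerIn hω.1)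
  have hγ' := hX.equiv P Q ω hωm hω.2.2 hPℋ γ hγ
  set γ' := MulAut.congr (hωm.equiv hω.2.2) γ
  refine ⟨x * (ν * γ' * ν⁻¹), mul_mem hx (hX.normal hQ hν hγ'), h, hh, hhQ, fun y hy => ?_⟩
  have h1 : ω y ∈ Q := hω.apply_mem hy
  show ω' (id (autFun γ y)) = _
  rw [eh _ (autFun_mem γ hy), ← congr_equiv_spec hωm hω.2.2 γ hy, ← eν _ (autFun_mem γ' h1),
    ← eν _ h1, ← autFun_mul _ _ h1, ← autFun_mul _ _ h1, ← autFun_mul _ _ h1]
  congr 1
  group

/-- Generated maps are good below `T`. -/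
theorem good_gen (hS : IsPGroup p S) (hF : F.IsSaturated p) (hX : Fam F T p ℋ X)
    (hQ : Q ∈ ℋ) (hn : F.IsFullyNormalized Q) (hid : HighId F T ℋ X (Nat.card Q))
    (hf : Gen ℋ X P f) :
    ∀ {P' : Subgroup Ω}, P' ≤ P → F.IsConj P' Q → P' < T → Good F T ℋ X Q P' f 1 := by
  induction hf with
  | @base R P γ f hR hγ hPR e =>
    intro P' hP' hc hlt
    have hle := hP'.trans hPR
    refine Good.congr (f := autFun γ) ?_ fun y hy => e y (hP' hy)
    rcases hle.eq_or_lt with rfl | hP'R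
    · exact good_member hS hF hX hQ hn hid hlt hR hγ
    · haveI := finite_of_le hX.le_S
      haveI := finite_of_le (hX.sub R hR)
      have hlt' : P' < normalizerIn R P' :=
        lt_normalizerIn (hS.of_injective _
          (Subgroup.inclusion_injective ((hX.sub R hR).trans hX.le_S))) hP'R
      exact good_of_ext hS hF hX hQ hn hid hlt' (fun z hz => ⟨hX.sub R hR hz.1, hz.2⟩)
        ((Lab.of_gen hX (.base hR hγ le_rfl fun _ _ => rfl)).mono inf_le_left)
  | @comp P R f g f' h1 h2 hm e ih1 ih2 =>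
    intro P' hP' hc hlt
    have hfm := (h1.isMap hX).1.mono hP'
    have hle : img P' f ≤ R := IsMap.img_le_iff.mpr fun y hy => hm y (hP' hy)
    have hgm := (h2.isMap hX).1.mono hle
    have hc' : F.IsConj (img P' f) Q :=
      isConj_trans (isConj_symm (isConj_iff.mpr ⟨f, hfm, rfl⟩)) hc
    have hlt' : img P' f < T := by
      haveI := finite_of_le hX.le_S
      refine lt_of_le_of_ne (hle.trans (h2.isMap hX).2) fun e' => hlt.ne ?_
      exact Subgroup.eq_of_le_of_card_ge hlt.le (by rw [← hfm.card_img, e'])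
    have := Good.comp hS hF hX hQ hn hc hlt.le hfm hgm (ih1 hP' hc hlt)
      (ih2 hle hc' hlt')
    rw [one_mul] at this
    exact this.congr fun y hy => e y (hP' hy)

/-- Every labelled map is good below `T`. -/
theorem good_lab (hS : IsPGroup p S) (hF : F.IsSaturated p) (hX : Fam F T p ℋ X)
    (hQ : Q ∈ ℋ) (hn : F.IsFullyNormalized Q) (hid : HighId F T ℋ X (Nat.card Q))
    (hP : P < T) (hc : F.IsConj P Q) (hf : Lab F T ℋ X P f α) :
    Good F T ℋ X Q P f α := by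
  obtain ⟨hα, g, hg, eg⟩ := hf
  haveI := finite_of_le hX.le_S
  have hgm := (hg.isMap hX).1
  have hgT : img P g ≤ T := IsMap.img_le_iff.mpr fun y hy => hX.apply_mem hgm hP.le hy
  have hlt : img P g < T := lt_of_le_of_ne hgT fun e' =>
    hP.ne (Subgroup.eq_of_le_of_card_ge hP.le (by rw [← hgm.card_img, e']))
  have := Good.comp hS hF hX hQ hn hc hP.le hgm ((hX.top_map hα).mono hgT)
    (good_gen hS hF hX hQ hn hid hg le_rfl hc hP)
    (good_aut hS hF hX hQ hn hid hlt hα)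
  rw [mul_one] at this
  exact this.congr eg

end Cfsg.Lib.Fusion.NFam
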