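import Cfsg.Agent.Fusion.NormalFamily.Good

/-!
Normal families: the generated loops on a member are the members of the family, and the labels of
the identity of a member extend.
-/

set_option autoImplicit false
set_option linter.unusedSectionVars false
set_option linter.style.haveILetI false

namespace Cfsg.Lib.Fusion.NFam

open Cfsg Cfsg.FusionSystem Cfsg.Lib.Fusion

universe u

variable {Ω : Type u} [Group Ω] {S T : Subgroup Ω} {F : FusionSystem S} {p : ℕ}
  {ℋ : Set (Subgroup Ω)} {X : ∀ Q : Subgroup Ω, Subgroup (MulAut Q)}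

variable [Finite S] [Fact p.Prime]

theorem gen_top (hX : Fam F T p ℋ X) {P : Subgroup Ω} {f : Ω → Ω} (hf : Gen ℋ X P f) :
    P = T → ∃ β ∈ X T, ∀ y ∈ T, f y = autFun β y := by
  induction hf with
  | @base R P γ f hR hγ hPR e =>
    rintro rfl
    obtain rfl : R = P := le_antisymm (hX.sub R hR) hPR
    exact ⟨γ, hγ, e⟩
  | @comp P R f g f' h1 h2 hm e ih1 ih2 =>
    rintro rfl
    obtain ⟨β, hβ, eβ⟩ := ih1 rfl
    have hR : R = P := le_antisymm (h2.isMap hX).2 fun y hy => by
      have h3 := hm _ (autFun_mem β⁻¹ hy)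
      rwa [eβ _ (autFun_mem β⁻¹ hy), autFun_inv_apply β hy] at h3
    obtain ⟨γ, hγ, eγ⟩ := ih2 hR
    exact ⟨γ * β, mul_mem hγ hβ, fun y hy => by
      rw [e y hy, eβ y hy, eγ _ (autFun_mem β hy), autFun_mul _ _ hy]⟩

/-- Both statements of the induction at `P`. -/
theorem loop_and_label (hS : IsPGroup p S) (hF : F.IsSaturated p) (hX : Fam F T p ℋ X) :
    ∀ P ∈ ℋ, (∀ β : MulAut P, Gen ℋ X P (autFun β) → β ∈ X P) ∧
      ∀ α, Lab F T ℋ X P id α → InW F T ℋ X P α := by
  haveI := finite_of_le hX.le_S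
  intro P
  induction hm : Nat.card T - Nat.card P using Nat.strong_induction_on generalizing P with
  | _ m ih =>
  intro hP
  have hPT := hX.sub P hP
  haveI := finite_of_le hPT
  rcases hPT.eq_or_lt with rfl | hlt
  · refine ⟨fun β hβ => ?_, fun α hα => ?_⟩
    · obtain ⟨γ, hγ, e⟩ := gen_top hX hβ rfl
      rwa [eq_of_autFun e]
    · exact ⟨id, hα.mono inf_le_left, fun _ _ => rfl⟩
  have high : ∀ R ∈ ℋ, Nat.card P < Nat.card R →
      (∀ β : MulAut R, Gen ℋ X R (autFun β) → β ∈ X R) ∧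
        ∀ α, Lab F T ℋ X R id α → InW F T ℋ X R α := fun R hR hc => by
    have := Subgroup.card_le_of_le (hX.sub R hR)
    exact ih (Nat.card T - Nat.card R) (by omega) R rfl hR
  obtain ⟨Q, hPQ, hn⟩ := exists_fullyNormalized (F := F) (hPT.trans hX.le_S)
  have hQ : Q ∈ ℋ := hX.conj P hP Q hPQ
  have hQT := hX.sub Q hQ
  haveI := finite_of_le hQT
  have hcard : Nat.card Q = Nat.card P := isConj_card hPQ
  have hid : HighId F T ℋ X (Nat.card Q) := fun R hR hc => (high R hR (hcard ▸ hc)).2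
  obtain ⟨ω, a, hω⟩ := exists_pos hS hF hX hn hPT hPQ
  have hωm := hω.2.1.isMap hX
  have hPN : P ≤ normalizerIn T P := le_normalizerIn hPT
  obtain ⟨k, hk, -, hkl, -⟩ := hωm.exists_inv
  have hQN : Q ≤ normalizerIn T Q := le_normalizerIn hQT
  have hQi : Q ≤ img (normalizerIn T P) ω :=
    fun z hz => img_mono hPN ω (hω.2.2.symm ▸ hz)
  refine ⟨fun β hβ => ?_, fun α hα => ?_⟩
  · obtain ⟨x, hx, h, hh, hhQ, eh⟩ :=
      good_gen hS hF hX hQ hn hid hβ le_rfl hPQ hlt ω a ω a hω (by rwa [img_autFun])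
    rw [mul_one, mul_inv_cancel] at hh
    obtain ⟨-, g, hg, eg⟩ := hh
    have hgm := (hg.isMap hX).1
    have hgh : Gen ℋ X (normalizerIn T Q) h := hg.congr fun z hz => by
      rw [eg z hz, autFun_one (hX.apply_mem hgm inf_le_left hz)]
    have hhm := (hgh.isMap hX).1
    obtain ⟨η, hη, eη⟩ := hhm.exists_aut (img_normalizer hX hQT hhm hhQ)
    have hNℋ : normalizerIn T Q ∈ ℋ := hX.up Q hQ _ hQN inf_le_left
    have hlt' : Nat.card P < Nat.card (normalizerIn T Q) := by
      have hQlt : Q < T := lt_of_le_of_ne hQT fun e => hlt.ne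
        (Subgroup.eq_of_le_of_card_ge hlt.le (by rw [← hcard, e]))
      have h2 := lt_normalizer_of_lt hS hX hQlt
      haveI : Finite (normalizerIn T Q) := finite_of_le inf_le_left
      rw [← hcard]
      exact lt_of_le_of_ne (Subgroup.card_le_of_le h2.le) fun e =>
        h2.ne (Subgroup.eq_of_le_of_card_ge h2.le e.ge)
    have hηX := (high _ hNℋ hlt').1 η (hgh.congr eη)
    obtain ⟨ν, hν, eν⟩ := (hhm.mono hQN).exists_aut (img_eq_of_apply (hhm.mono hQN) le_rfl hhQ)
    have hνX : ν ∈ X Q := hX.res Q _ hQ hQN inf_le_left η hηX ν fun z hz => by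
      rw [eν z hz, eη z (hQN hz)]
    have hki : img Q k = P := by
      refine le_antisymm (IsMap.img_le_iff.mpr fun z hz => ?_) fun y hy => ?_
      · rw [← hω.2.2] at hz
        obtain ⟨y, hy, rfl⟩ := (hωm.mono hPN).mem_img.mp hz
        rwa [hkl y (hPN hy)]
      · rw [← hkl y (hPN hy)]
        exact IsMap.apply_mem_img (hω.apply_mem hy)
    have hkQ := hk.mono hQi
    have hb := hX.equiv Q P k hkQ hki hQ _ (mul_mem hx hνX)
    convert hb using 1
    refine eq_of_autFun fun y hy => ?_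
    have h1 : ω y ∈ Q := hω.apply_mem hy
    have h2 := congr_equiv_spec hkQ hki (x * ν) h1
    rw [hkl y (hPN hy)] at h2
    rw [h2, autFun_mul _ _ h1, eν _ h1, ← eh y hy]
    exact (hkl _ (hPN (autFun_mem β hy))).symm
  · obtain ⟨x, hx, h, hh, hhQ, eh⟩ :=
      good_lab hS hF hX hQ hn hid hlt hPQ hα ω a ω a hω (by rwa [img_id])
    have hhQi : img Q h = Q := img_eq_of_apply ((hh.isMap hX).mono hQN) le_rfl hhQ
    have hhx : ∀ z ∈ Q, h z = autFun x⁻¹ z := fun z hz => by
      have hz' : z ∈ img P ω := hω.2.2.symm ▸ hz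
      obtain ⟨y, hy, rfl⟩ := (hωm.mono hPN).mem_img.mp hz'
      have h1 := eh y hy
      conv_rhs => rw [show ω y = autFun x (h (ω y)) from h1]
      exact (autFun_inv_apply' x (hhQ _ hz)).symm
    obtain ⟨e, he, ee⟩ := inW_of_normalizer hS hF hX hQ hn hh ((X Q).inv_mem hx) hhx
    have heN : ∀ y ∈ normalizerIn T P, e (ω y) ∈ img (normalizerIn T P) ω := fun y hy => by
      have hz := hω.mem_normalizer hX hy
      have hem := he.isMap hX
      have hez := mem_normalizerIn_of hX hem hQN le_rfl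
        (fun w hw => (ee w hw).symm ▸ hw) hz
      have hc : (ω y)⁻¹ * e (ω y) ∈ centralizerIn T Q := Fusion.mem_centralizerIn.mpr
        ⟨T.mul_mem (T.inv_mem hz.1) hez.1, fun w hw => by
          have h2 := hem.map_conj hz (hQN hw)
          rw [ee w hw, ee _ (conj_mem_of_mem_normalizer hz.2 hw)] at h2
          calc (ω y)⁻¹ * e (ω y) * w * ((ω y)⁻¹ * e (ω y))⁻¹ =
              (ω y)⁻¹ * (e (ω y) * w * (e (ω y))⁻¹) * ω y := by group
            _ = w := by rw [← h2]; group⟩
      have := Subgroup.mul_mem _ (IsMap.apply_mem_img (f := ω) hy) (hQi (hX.centric Q hQ hc))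
      rwa [mul_inv_cancel_left] at this
    refine ⟨k ∘ (e ∘ ω), ?_, fun y hy => ?_⟩
    · convert Lab.comp hX (Lab.comp hX hω.2.1 he fun y hy => hω.mem_normalizer hX hy)
        (hω.2.1.inv hX hkl) heN using 1
      group
    · show k (e (ω y)) = y
      rw [ee _ (hω.apply_mem hy), hkl y (hPN hy)]

/-- Generated loops are members of the family. -/
theorem mem_of_gen (hS : IsPGroup p S) (hF : F.IsSaturated p) (hX : Fam F T p ℋ X)
    {P : Subgroup Ω} (hP : P ∈ ℋ) {β : MulAut P} (h : Gen ℋ X P (autFun β)) : β ∈ X P :=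
  (loop_and_label hS hF hX P hP).1 β h

/-- Maps on subgroups of `N_T(Q)` restricting to the family have labels fixing `Q`. -/
theorem inW_of_agree (hS : IsPGroup p S) (hF : F.IsSaturated p) (hX : Fam F T p ℋ X)
    {Q H : Subgroup Ω} (hQ : Q ∈ ℋ) (hn : F.IsFullyNormalized Q) (hQH : Q ≤ H)
    (hH : H ≤ normalizerIn T Q) {g : Ω → Ω} {c : MulAut T} (hg : Lab F T ℋ X H g c)
    {x : MulAut Q} (hx : x ∈ X Q) (eg : ∀ z ∈ Q, g z = autFun x z) : InW F T ℋ X Q c := by
  haveI := finite_of_le hX.le_S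
  haveI := finite_of_le (hX.sub Q hQ)
  haveI := finite_of_le (hH.trans inf_le_left)
  rcases hQH.eq_or_lt with rfl | hlt
  · have hx' : Lab F T ℋ X Q (autFun x⁻¹) 1 :=
      Lab.of_gen hX (.base hQ ((X Q).inv_mem hx) le_rfl fun _ _ => rfl)
    have := Lab.comp hX hg hx' fun z hz => eg z hz ▸ autFun_mem x hz
    rw [one_mul] at this
    exact (loop_and_label hS hF hX Q hQ).2 c (this.congr fun z hz => by
      show id z = autFun x⁻¹ (g z)
      rw [eg z hz, autFun_inv_apply' x hz]
      rfl)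
  · exact settled hS hF hX hQ hn (fun R hR _ => (loop_and_label hS hF hX R hR).2) H
      (lt_of_le_of_ne (Subgroup.card_le_of_le hQH) fun e =>
        hlt.ne (Subgroup.eq_of_le_of_card_ge hQH e.ge)) hQH hH g c hg x hx eg

end Cfsg.Lib.Fusion.NFam
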