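import Cfsg.Agent.Fusion.NormalFamily.Builder
import Cfsg.Agent.Fusion.NormalExt.GoodExt
import Cfsg.Agent.Fusion.FactorHyperfocal
import Cfsg.Agent.Fusion.SolvableChain

/-!
Lifting a normal subsystem of a quotient by a central subgroup to a weakly normal subsystem.
-/

set_option autoImplicit false
set_option linter.unusedSectionVars false
set_option linter.style.haveILetI false

namespace Cfsg.Lib.Fusion.NLift

open Cfsg Cfsg.FusionSystem Cfsg.Lib.Fusion

universe u v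

variable {Ω : Type u} [Group Ω] {S Z : Subgroup Ω} {F : FusionSystem S} {p : ℕ}
  {Ω' : Type v} [Group Ω'] {S' T' : Subgroup Ω'} {θ : S →* Ω'} {E : FusionSystem S'}
  {D : FusionSystem T'}

theorem mem_im {Q : Subgroup Ω} (hQ : Q ≤ S) {y : Ω'} :
    y ∈ imageAlong θ Q ↔ ∃ x ∈ Q, qmap θ x = y := by
  constructor
  · rintro ⟨s, hs, rfl⟩
    exact ⟨s, hs, qmap_apply s.2⟩
  · rintro ⟨x, hx, rfl⟩
    exact ⟨⟨x, hQ hx⟩, hx, (qmap_apply (hQ hx)).symm⟩

theorem im_mono {P Q : Subgroup Ω} (h : P ≤ Q) : imageAlong θ P ≤ imageAlong θ Q :=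
  Subgroup.map_mono (Subgroup.comap_mono h)

theorem qmap_mem_im {Q : Subgroup Ω} (hQ : Q ≤ S) {x : Ω} (hx : x ∈ Q) :
    qmap θ x ∈ imageAlong θ Q := (mem_im hQ).mpr ⟨x, hx, rfl⟩

/-- The data: a quotient by a central subgroup with a normal subsystem. -/
structure Ctx (F : FusionSystem S) (Z : Subgroup Ω) (θ : S →* Ω') (E : FusionSystem S')
    (D : FusionSystem T') (p : ℕ) : Prop where
  pgroup : IsPGroup p S
  sat : F.IsSaturated p
  central : F.IsCentral Z
  ker : ∀ s : S, θ s = 1 ↔ (s : Ω) ∈ Z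
  quot : IsQuot F θ E
  normal : D.IsNormalIn E p

namespace Ctx

variable [Finite S] [Fact p.Prime] (h : Ctx F Z θ E D p)
include h

theorem hZS : Z ≤ S := h.central.1

theorem fix {P : Subgroup Ω} {f : Ω → Ω} (hf : IsMap F P f) {z : Ω} (hz : z ∈ Z) (hzP : z ∈ P) :
    f z = z := by
  obtain ⟨k, -, ek, hkz⟩ := (isCentral_iff.mp h.central).2 P f hf
  rw [← ek z hzP, hkz z hz]

theorem comm {z s : Ω} (hz : z ∈ Z) (hs : s ∈ S) : s * z * s⁻¹ = z :=
  h.fix (isMap_conj (F := F) le_rfl hs) hz (h.hZS hz)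

theorem qmap_eq_one {x : Ω} (hx : x ∈ S) : qmap θ x = 1 ↔ x ∈ Z := by
  rw [qmap_apply hx]; exact h.ker _

theorem hT' : T' ≤ S' := h.normal.1.2.2.2.1.1

theorem finite_target : Finite S' := finite_of_range h.quot.range

theorem pgroup_target : IsPGroup p S' := by
  rw [← h.quot.range]
  exact h.pgroup.of_surjective θ.rangeRestrict θ.rangeRestrict_surjective

theorem pre_im {Q : Subgroup Ω} (hQ : Q ≤ S) (hZQ : Z ≤ Q) :
    preimageAlong θ (imageAlong θ Q) = Q := by
  rw [preimage_imageAlong h.hZS hQ h.ker, sup_eq_left]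
  exact hZQ

theorem im_le {Q : Subgroup Ω} : imageAlong θ Q ≤ S' := by
  rintro _ ⟨s, -, rfl⟩
  rw [← h.quot.range]
  exact ⟨s, rfl⟩

theorem im_pre {P' : Subgroup Ω'} (hP' : P' ≤ S') :
    imageAlong θ (preimageAlong θ P') = P' := by
  refine le_antisymm (fun y hy => ?_) fun y hy => ?_
  · obtain ⟨x, hx, rfl⟩ := (mem_im (preimageAlong_le _)).mp hy
    exact (mem_preimageAlong.mp hx).2
  · obtain ⟨x, hx, rfl⟩ := exists_preimage (h.quot.range.symm ▸ hP') hy
    exact qmap_mem_im (preimageAlong_le _) hx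

theorem le_pre {P' : Subgroup Ω'} : Z ≤ preimageAlong θ P' := fun x hx =>
  mem_preimageAlong.mpr ⟨h.hZS hx, by rw [(h.qmap_eq_one (h.hZS hx)).mpr hx]; exact P'.one_mem⟩

/-- A map on a subgroup containing `Z` pushes down. -/
theorem push {Q : Subgroup Ω} {f : Ω → Ω} (hf : IsMap F Q f) (hZQ : Z ≤ Q) :
    IsMap E (imageAlong θ Q) (pushMap θ f) ∧
      (∀ x ∈ Q, pushMap θ f (qmap θ x) = qmap θ (f x)) ∧
      img (imageAlong θ Q) (pushMap θ f) = imageAlong θ (img Q f) := by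
  have e := h.pre_im hf.le hZQ
  have hm := h.quot.isMap_pushMap (P' := imageAlong θ Q) h.im_le (e.symm ▸ hf)
  have ha : ∀ x ∈ Q, pushMap θ f (qmap θ x) = qmap θ (f x) := fun x hx =>
    h.quot.pushMap_apply (P' := imageAlong θ Q) (e.symm ▸ hf) (e.symm ▸ hx)
  refine ⟨hm, ha, le_antisymm (IsMap.img_le_iff.mpr fun y hy => ?_) fun y hy => ?_⟩
  · obtain ⟨x, hx, rfl⟩ := (mem_im hf.le).mp hy
    rw [ha x hx]
    exact qmap_mem_im hf.img_le (IsMap.apply_mem_img hx)
  · obtain ⟨w, hw, rfl⟩ := (mem_im hf.img_le).mp hy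
    obtain ⟨x, hx, rfl⟩ := hf.mem_img.mp hw
    rw [← ha x hx]
    exact IsMap.apply_mem_img (qmap_mem_im hf.le hx)

theorem img_ge {Q : Subgroup Ω} {f : Ω → Ω} (hf : IsMap F Q f) (hZQ : Z ≤ Q) : Z ≤ img Q f :=
  fun z hz => by rw [← h.fix hf hz (hZQ hz)]; exact IsMap.apply_mem_img (hZQ hz)

/-- Normalizers downstairs come from normalizers upstairs. -/
theorem pre_normalizer {Q : Subgroup Ω} (hQ : Q ≤ S) (hZQ : Z ≤ Q) :
    preimageAlong θ (normalizerIn S' (imageAlong θ Q)) ≤ normalizerIn S Q := fun s hs => by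
  obtain ⟨hsS, hn⟩ := mem_preimageAlong.mp hs
  haveI := finite_of_le hQ
  refine ⟨hsS, mem_normalizer_of_maps_finite fun x hx => ?_⟩
  rw [← h.pre_im hQ hZQ]
  refine mem_preimageAlong.mpr ⟨S.mul_mem (S.mul_mem hsS (hQ hx)) (S.inv_mem hsS), ?_⟩
  rw [qmap_conj hsS (hQ hx)]
  exact conj_mem_of_mem_normalizer hn.2 (qmap_mem_im hQ hx)

theorem qmap_normalizer {Q : Subgroup Ω} (hQ : Q ≤ S) {s : Ω} (hs : s ∈ normalizerIn S Q) :
    qmap θ s ∈ normalizerIn S' (imageAlong θ Q) := by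
  haveI := h.finite_target
  haveI := finite_of_le (h.im_le (Q := Q))
  refine ⟨?_, mem_normalizer_of_maps_finite fun y hy => ?_⟩
  · rw [← h.quot.range, qmap_apply hs.1]
    exact ⟨_, rfl⟩
  · obtain ⟨x, hx, rfl⟩ := (mem_im hQ).mp hy
    rw [← qmap_conj hs.1 (hQ hx)]
    exact qmap_mem_im hQ (conj_mem_of_mem_normalizer hs.2 hx)

/-- Full normalization passes to the quotient. -/
theorem fullyNormalized_im {Q : Subgroup Ω} (hn : F.IsFullyNormalized Q) (hZQ : Z ≤ Q) :
    E.IsFullyNormalized (imageAlong θ Q) := by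
  haveI := h.finite_target
  haveI := finite_of_le hn.1
  refine ⟨h.im_le, fun R' hR' => ?_⟩
  obtain ⟨g, hg, hgi⟩ := isConj_iff.mp (isConj_symm hR')
  obtain ⟨f, hf, hfe⟩ := h.quot.exists_lift hg
  set R := preimageAlong θ R'
  have hfQ : ∀ x ∈ R, f x ∈ Q := fun x hx => by
    rw [← h.pre_im hn.1 hZQ]
    refine mem_preimageAlong.mpr ⟨hf.mem_S hx, ?_⟩
    rw [← hfe x hx, ← hgi]
    exact IsMap.apply_mem_img (mem_preimageAlong.mp hx).2
  have hfi : img R f = Q := by
    refine le_antisymm (IsMap.img_le_iff.mpr hfQ) fun w hw => ?_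
    obtain ⟨y, hy, e⟩ := hg.mem_img.mp (hgi.symm ▸ qmap_mem_im (θ := θ) hn.1 hw)
    obtain ⟨x, hx, rfl⟩ := exists_preimage (h.quot.range.symm ▸ hg.le) hy
    rw [hfe x hx] at e
    have hwS := hn.1 hw
    have hxS := hf.mem_S hx
    have hz : (f x)⁻¹ * w ∈ Z := (h.qmap_eq_one (S.mul_mem (S.inv_mem hxS) hwS)).mp (by
      rw [qmap_mul (S.inv_mem hxS) hwS, qmap_inv hxS, e, inv_mul_cancel])
    have := Subgroup.mul_mem _ (IsMap.apply_mem_img (f := f) hx) (h.img_ge hf h.le_pre hz)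
    rwa [mul_inv_cancel_left] at this
  obtain ⟨-, hfa, hrec⟩ := fullyNormalized_props h.pgroup h.sat hn
  obtain ⟨-, -, k, hk, hki, -, hkN⟩ := exists_map_normalizer h.pgroup hfa hrec hf hfi
  have hRim : imageAlong θ R = R' := h.im_pre hg.le
  have hle := h.pre_normalizer (Q := R) (preimageAlong_le _) h.le_pre
  rw [hRim] at hle
  have hZN : Z ≤ preimageAlong θ (normalizerIn S' R') := h.le_pre
  obtain ⟨hm, ha, -⟩ := h.push (hk.mono hle) hZN
  rw [h.im_pre (P' := normalizerIn S' R') inf_le_left] at hm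
  refine card_le_of_isMap hm le_rfl inf_le_left fun y hy => ?_
  obtain ⟨x, hx, rfl⟩ := exists_preimage
    (le_trans inf_le_left h.quot.range.ge : normalizerIn S' R' ≤ θ.range) hy
  rw [ha x hx]
  exact h.qmap_normalizer hn.1 (hkN x (hle hx))

/-- The preimage of the subgroup of the subsystem. -/
theorem stronglyClosed_pre : F.StronglyClosed (preimageAlong θ T') :=
  stronglyClosed_of_apply (preimageAlong_le _) fun P f hf x hx hxU => by
    obtain ⟨k, hk, ek, -⟩ := (isCentral_iff.mp h.central).2 P f hf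
    obtain ⟨hm, ha, -⟩ := h.push hk le_sup_right
    rw [← ek x hx]
    refine mem_preimageAlong.mpr ⟨hk.mem_S (Subgroup.mem_sup_left hx), ?_⟩
    rw [← ha x (Subgroup.mem_sup_left hx)]
    exact stronglyClosed_apply h.normal.1.2.2.2.1 hm
      (qmap_mem_im hk.le (Subgroup.mem_sup_left hx)) (mem_preimageAlong.mp hxU).2

end Ctx

/-- The members: preimages of centric subgroups. -/
def members (Z : Subgroup Ω) (θ : S →* Ω') (D : FusionSystem T') : Set (Subgroup Ω) :=
  {Q | Q ≤ preimageAlong θ T' ∧ Z ≤ Q ∧ D.IsCentric (imageAlong θ Q)}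

/-- The automorphism induces one of the subsystem downstairs. -/
def Down (θ : S →* Ω') (D : FusionSystem T') (Q : Subgroup Ω) (f : Ω → Ω) : Prop :=
  ∃ g, IsMap D (imageAlong θ Q) g ∧ ∀ x ∈ Q, g (qmap θ x) = qmap θ (f x)

/-- The automorphisms inducing members of the subsystem. -/
def downAut (F : FusionSystem S) (θ : S →* Ω') (D : FusionSystem T') (Q : Subgroup Ω) :
    Subgroup (MulAut Q) :=
  Subgroup.closure {β | β ∈ F.autGroup Q ∧ Down θ D Q (autFun β)}

theorem Down.congr {Q : Subgroup Ω} {f f' : Ω → Ω} (h : Down θ D Q f)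
    (e : ∀ x ∈ Q, f' x = f x) : Down θ D Q f' :=
  let ⟨g, hg, eg⟩ := h
  ⟨g, hg, fun x hx => (eg x hx).trans (congrArg (qmap θ) (e x hx).symm)⟩

namespace Ctx

variable [Finite S] [Fact p.Prime] (h : Ctx F Z θ E D p)
include h

theorem im_le_T' {Q : Subgroup Ω} (hQ : Q ≤ preimageAlong θ T') : imageAlong θ Q ≤ T' := by
  rw [← h.im_pre h.hT']
  exact im_mono hQ

theorem mem_downAut {Q : Subgroup Ω} (hQ : Q ∈ members Z θ D) {β : MulAut Q} :
    β ∈ downAut F θ D Q ↔ β ∈ F.autGroup Q ∧ Down θ D Q (autFun β) := by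
  refine ⟨fun hβ => ?_, fun hβ => Subgroup.subset_closure hβ⟩
  have hQS : Q ≤ S := hQ.1.trans (preimageAlong_le _)
  induction hβ using Subgroup.closure_induction with
  | mem β hβ => exact hβ
  | one =>
    exact ⟨one_mem _, id, isMap_id (h.im_le_T' hQ.1), fun x hx => by rw [autFun_one hx]; rfl⟩
  | mul a b _ _ ha hb =>
    obtain ⟨g, hg, eg⟩ := ha.2
    obtain ⟨g', hg', eg'⟩ := hb.2
    have hm : ∀ y ∈ imageAlong θ Q, g' y ∈ imageAlong θ Q := fun y hy => by
      obtain ⟨x, hx, rfl⟩ := (mem_im hQS).mp hy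
      rw [eg' x hx]
      exact qmap_mem_im hQS (autFun_mem b hx)
    exact ⟨mul_mem ha.1 hb.1, g ∘ g', hg'.comp hg hm, fun x hx => by
      show g (g' (qmap θ x)) = _
      rw [eg' x hx, eg _ (autFun_mem b hx), autFun_mul _ _ hx]⟩
  | inv a _ ha =>
    obtain ⟨g, hg, eg⟩ := ha.2
    obtain ⟨k, hk, -, hkl, -⟩ := hg.exists_inv
    have hgi : img (imageAlong θ Q) g = imageAlong θ Q := by
      refine le_antisymm (IsMap.img_le_iff.mpr fun y hy => ?_) fun y hy => ?_
      · obtain ⟨x, hx, rfl⟩ := (mem_im hQS).mp hy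
        rw [eg x hx]
        exact qmap_mem_im hQS (autFun_mem a hx)
      · obtain ⟨x, hx, rfl⟩ := (mem_im hQS).mp hy
        rw [← autFun_inv_apply a hx, ← eg _ (autFun_mem _ hx)]
        exact IsMap.apply_mem_img (qmap_mem_im hQS (autFun_mem _ hx))
    rw [hgi] at hk
    refine ⟨Subgroup.inv_mem _ ha.1, k, hk, fun x hx => ?_⟩
    conv_lhs => rw [← autFun_inv_apply a hx, ← eg _ (autFun_mem _ hx)]
    exact hkl _ (qmap_mem_im hQS (autFun_mem _ hx))

theorem members_conj {Q : Subgroup Ω} (hQ : Q ∈ members Z θ D) {R : Subgroup Ω}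
    (hR : F.IsConj Q R) : R ∈ members Z θ D := by
  obtain ⟨f, hf, rfl⟩ := isConj_iff.mp hR
  obtain ⟨hm, -, himg⟩ := h.push hf hQ.2.1
  refine ⟨IsMap.img_le_iff.mpr fun x hx => stronglyClosed_apply h.stronglyClosed_pre hf hx (hQ.1 hx),
    h.img_ge hf hQ.2.1, ?_⟩
  rw [← himg]
  exact CharSub.centricT_img h.normal.1.2.2 hQ.2.2 hm

/-- An induced automorphism which descends into the subsystem. -/
theorem exists_induced {Q : Subgroup Ω} (hQ : Q ∈ members Z θ D) (hn : F.IsFullyNormalized Q)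
    {s : Ω} (hs : s ∈ normalizerIn S Q) (hd : Down θ D Q (fun x => s * x * s⁻¹)) :
    ∃ u ∈ preimageAlong θ T', u ∈ normalizerIn S Q ∧ u⁻¹ * s ∈ normalizerIn S Q ∧
      ∀ x ∈ Q, qmap θ (u⁻¹ * s * x * (u⁻¹ * s)⁻¹) = qmap θ x := by
  haveI := h.finite_target
  obtain ⟨hwn, -⟩ := h.normal
  obtain ⟨hDs, hEs, hinv⟩ := hwn
  have hQS : Q ≤ S := hQ.1.trans (preimageAlong_le _)
  have hT := h.hT'
  haveI := finite_of_le hT
  set Q' := imageAlong θ Q
  have hQ'T : Q' ≤ T' := h.im_le_T' hQ.1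
  haveI := finite_of_le hQ'T
  have hTp : IsPGroup p T' := h.pgroup_target.of_injective _ (Subgroup.inclusion_injective hT)
  have hn' := h.fullyNormalized_im hn hQ.2.1
  have hDn := NormCent.fullyNormalized_sub h.pgroup_target hEs hinv hQ'T hn'
  have hfaD := (fullyNormalized_props hTp hDs hDn).2.1
  set σ := qmap θ s
  have hσ : σ ∈ normalizerIn S' Q' := h.qmap_normalizer hQS hs
  have hσD : conjAut Q' σ hσ.2 ∈ D.autGroup Q' := by
    obtain ⟨g, hg, eg⟩ := hd
    refine (isMap_autFun hQ'T).mp (hg.congr fun y hy => ?_)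
    obtain ⟨x, hx, rfl⟩ := (mem_im hQS).mp hy
    rw [eg x hx, autFun_apply_mem _ hy, conjAut_apply, qmap_conj hs.1 (hQS hx)]
  set U := autInducedBy T' Q'
  set W := autInducedBy S' Q' ⊓ D.autGroup Q'
  have hUW : U ≤ W := le_inf (autInducedBy_mono hT) (autInducedBy_le hQ'T)
  have hWp : IsPGroup p W := (isPGroup_autInducedBy h.pgroup_target Q').to_le inf_le_left
  haveI : Finite (MulAut Q') := NormCent.finite_mulAut Q'
  have hWU : W = U := by
    refine (Subgroup.eq_of_le_of_card_ge hUW ?_).symm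
    obtain ⟨χ, -, hχ⟩ := exists_conj_into_autS hfaD hWp inf_le_right
    exact Nat.card_le_card_of_injective (fun v => (⟨χ * v * χ⁻¹, hχ v v.2⟩ : U))
      fun a b hab => Subtype.ext (mul_left_cancel (mul_right_cancel
        (congrArg (fun z : U => (z : MulAut Q')) hab)))
  obtain ⟨t, ht, et⟩ := mem_autInducedBy.mp (hWU.le ⟨conjAut_mem_autInducedBy hσ.2 hσ.1, hσD⟩)
  have htn : t ∈ normalizerIn S' Q' := ⟨hT ht, NFam.mem_normalizer_of_induced et⟩
  obtain ⟨u, hu, rfl⟩ := exists_preimage (h.quot.range.symm ▸ hT) ht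
  have huS := preimageAlong_le _ hu
  have huN : u ∈ normalizerIn S Q :=
    h.pre_normalizer hQS hQ.2.1 (mem_preimageAlong.mpr ⟨huS, htn⟩)
  have hv : u⁻¹ * s ∈ normalizerIn S Q := Subgroup.mul_mem _ (Subgroup.inv_mem _ huN) hs
  refine ⟨u, hu, huN, hv, fun x hx => ?_⟩
  have h1 := et ⟨qmap θ x, qmap_mem_im hQS hx⟩
  rw [conjAut_apply] at h1
  rw [qmap_conj hv.1 (hQS hx), qmap_mul (S.inv_mem huS) hs.1, qmap_inv huS]
  calc (qmap θ u)⁻¹ * σ * qmap θ x * ((qmap θ u)⁻¹ * σ)⁻¹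
      = (qmap θ u)⁻¹ * (σ * qmap θ x * σ⁻¹) * qmap θ u := by group
    _ = qmap θ x := by rw [h1]; group

/-- Automorphisms trivial modulo `Z` commute. -/
theorem trivial_comm {Q : Subgroup Ω} (hQS : Q ≤ S) {a b : MulAut Q} (ha : a ∈ F.autGroup Q)
    (hb : b ∈ F.autGroup Q) (ha1 : ∀ x ∈ Q, qmap θ (autFun a x) = qmap θ x)
    (hb1 : ∀ x ∈ Q, qmap θ (autFun b x) = qmap θ x) : a * b = b * a := by
  have hm : ∀ (c : MulAut Q), c ∈ F.autGroup Q → (∀ x ∈ Q, qmap θ (autFun c x) = qmap θ x) →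
      ∀ x ∈ Q, x⁻¹ * autFun c x ∈ Z := fun c hc hc1 x hx => by
    have hxS := hQS hx
    have hcS := hQS (autFun_mem c hx)
    refine (h.qmap_eq_one (S.mul_mem (S.inv_mem hxS) hcS)).mp ?_
    rw [qmap_mul (S.inv_mem hxS) hcS, qmap_inv hxS, hc1 x hx, inv_mul_cancel]
  refine NFam.eq_of_autFun fun x hx => ?_
  have key : ∀ (c d : MulAut Q), c ∈ F.autGroup Q → (∀ x ∈ Q, x⁻¹ * autFun d x ∈ Z) →
      autFun (c * d) x = autFun c x * (x⁻¹ * autFun d x) := fun c d hc hd => by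
    have hcm := (isMap_autFun hQS).mpr hc
    have hzQ : x⁻¹ * autFun d x ∈ Q := Q.mul_mem (Q.inv_mem hx) (autFun_mem d hx)
    rw [autFun_mul _ _ hx]
    conv_lhs => rw [show autFun d x = x * (x⁻¹ * autFun d x) by group]
    rw [hcm.map_mul hx hzQ, h.fix hcm (hd x hx) hzQ]
  have za := hm a ha ha1
  have zb := hm b hb hb1
  rw [key a b ha zb, key b a hb za]
  have hsw := h.comm (za x hx) (hQS (Q.mul_mem (Q.inv_mem hx) (autFun_mem b hx)))
  calc autFun a x * (x⁻¹ * autFun b x) = x * ((x⁻¹ * autFun a x) * (x⁻¹ * autFun b x)) := by group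
    _ = x * ((x⁻¹ * autFun b x) * (x⁻¹ * autFun a x)) := by
        conv_rhs => rw [eq_mul_of_mul_inv_eq hsw]
    _ = autFun b x * (x⁻¹ * autFun a x) := by group

/-- The focal condition. -/
theorem focal {Q : Subgroup Ω} (hQ : Q ∈ members Z θ D) (hn : F.IsFullyNormalized Q)
    {x y : MulAut Q} (hx : x ∈ downAut F θ D Q) (hy : y ∈ downAut F θ D Q)
    (hxS : x ∈ autInducedBy S Q) (hyxS : y * x * y⁻¹ ∈ autInducedBy S Q) :
    x⁻¹ * (y * x * y⁻¹) ∈ autInducedBy (preimageAlong θ T') Q := by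
  haveI := h.finite_target
  have hQS : Q ≤ S := hQ.1.trans (preimageAlong_le _)
  haveI := finite_of_le hQS
  set U := preimageAlong θ T'
  have hUsc := h.stronglyClosed_pre
  obtain ⟨hyF, g, hg, eg⟩ := (h.mem_downAut hQ).mp hy
  obtain ⟨s, hs, es⟩ := mem_autInducedBy.mp hxS
  have hsn : s ∈ normalizerIn S Q := ⟨hs, NFam.mem_normalizer_of_induced es⟩
  have hxe : x = conjAut Q s hsn.2 := NFam.eq_conjAut hsn.2 es
  obtain ⟨u, hu, huN, hv, hvt⟩ := h.exists_induced hQ hn hsn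
    (((h.mem_downAut hQ).mp hx).2.congr fun z hz => by
      rw [autFun_apply_mem _ hz]; exact (es ⟨z, hz⟩).symm)
  set v := u⁻¹ * s
  set cu := conjAut Q u huN.2
  set k := conjAut Q v hv.2
  have hxk : x = cu * k := by
    refine NFam.eq_of_autFun fun z hz => ?_
    have ek : autFun k z = v * z * v⁻¹ := by rw [autFun_apply_mem k hz, conjAut_apply]
    rw [hxe, autFun_mul _ _ hz, ek, autFun_apply_mem _ hz, conjAut_apply,
      autFun_apply_mem _ (conj_mem_of_mem_normalizer hv.2 hz), conjAut_apply]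
    simp only [v]
    group
  -- the extension of `y`
  set Q' := imageAlong θ Q
  have hQ'T : Q' ≤ T' := h.im_le_T' hQ.1
  haveI : Finite Q' := finite_of_le h.im_le
  obtain ⟨yb, hyb, eyb⟩ := hg.exists_aut (by
    refine Subgroup.eq_of_le_of_card_ge (IsMap.img_le_iff.mpr fun y' hy' => ?_) hg.card_img.ge
    obtain ⟨z, hz, rfl⟩ := (mem_im hQS).mp hy'
    rw [eg z hz]
    exact qmap_mem_im hQS (autFun_mem y hz))
  obtain ⟨G, hG, eG, hGc⟩ := NExt.goodExt h.pgroup_target h.normal hQ.2.2 yb hyb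
  obtain ⟨f, hf, hfe⟩ := h.quot.exists_lift hG
  set W := preimageAlong θ (Q' ⊔ centralizerIn S' Q')
  have hQW : Q ≤ W := fun z hz =>
    mem_preimageAlong.mpr ⟨hQS hz, Subgroup.mem_sup_left (qmap_mem_im hQS hz)⟩
  have hfG : ∀ z ∈ Q, qmap θ (f z) = qmap θ (autFun y z) := fun z hz => by
    rw [← hfe z (hQW hz), eG _ (qmap_mem_im hQS hz), eyb _ (qmap_mem_im hQS hz), eg z hz]
  have hfQ : ∀ z ∈ Q, f z ∈ Q := fun z hz => by
    rw [← h.pre_im hQS hQ.2.1]
    refine mem_preimageAlong.mpr ⟨hf.mem_S (hQW hz), ?_⟩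
    rw [hfG z hz]
    exact qmap_mem_im hQS (autFun_mem y hz)
  obtain ⟨φ, hφ, eφ⟩ := (hf.mono hQW).exists_aut (img_eq_of_apply (hf.mono hQW) le_rfl hfQ)
  set k₀ := y * φ⁻¹
  have hk₀ : k₀ ∈ F.autGroup Q := mul_mem hyF (Subgroup.inv_mem _ hφ)
  have hk₀1 : ∀ z ∈ Q, qmap θ (autFun k₀ z) = qmap θ z := fun z hz => by
    have hz' := autFun_mem φ⁻¹ hz
    conv_rhs => rw [← autFun_inv_apply φ hz, eφ _ hz', hfG _ hz']
    rw [autFun_mul _ _ hz]
  have hv' : qmap θ v ∈ centralizerIn S' Q' := Fusion.mem_centralizerIn.mpr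
    ⟨(h.qmap_normalizer hQS hv).1, fun y' hy' => by
      obtain ⟨z, hz, rfl⟩ := (mem_im hQS).mp hy'
      rw [← qmap_conj hv.1 (hQS hz), hvt z hz]⟩
  have hvW : v ∈ W := mem_preimageAlong.mpr ⟨hv.1, Subgroup.mem_sup_right hv'⟩
  set q := v⁻¹ * f v
  have hqQ : q ∈ Q := by
    rw [← h.pre_im hQS hQ.2.1]
    refine mem_preimageAlong.mpr ⟨S.mul_mem (S.inv_mem hv.1) (hf.mem_S hvW), ?_⟩
    rw [qmap_mul (S.inv_mem hv.1) (hf.mem_S hvW), qmap_inv hv.1, ← hfe v hvW]
    exact hGc _ hv'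
  have hfvN : f v ∈ normalizerIn S Q := by
    have := hf.mem_normalizerIn hQW hvW hv.2
    rwa [img_eq_of_apply (hf.mono hQW) le_rfl hfQ] at this
  set kf := conjAut Q (f v) hfvN.2
  have hkfeq : φ * k * φ⁻¹ = kf := NFam.eq_of_autFun fun z hz => by
    have hz' := autFun_mem φ⁻¹ hz
    rw [autFun_mul _ _ hz, autFun_mul _ _ (autFun_mem _ hz), autFun_apply_mem k hz',
      conjAut_apply, eφ _ (conj_mem_of_mem_normalizer hv.2 hz'), hf.map_conj hvW (hQW hz'),
      ← eφ _ hz', autFun_inv_apply φ hz, autFun_apply_mem kf hz, conjAut_apply]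
  have hkf1 : ∀ z ∈ Q, qmap θ (autFun kf z) = qmap θ z := fun z hz => by
    have hfvC : qmap θ (f v) ∈ centralizerIn S' Q' := by
      rw [← hfe v hvW]
      haveI := finite_of_le hG.le
      have := hG.mem_centralizerIn (P := Q') le_sup_left (Subgroup.mem_sup_right hv') hv'
      rwa [img_congr eG, img_autFun] at this
    rw [autFun_apply_mem kf hz, conjAut_apply, qmap_conj hfvN.1 (hQS hz)]
    exact (Fusion.mem_centralizerIn.mp hfvC).2 _ (qmap_mem_im hQS hz)
  have hkfF : kf ∈ F.autGroup Q := autInducedBy_le hQS (conjAut_mem_autInducedBy _ hfvN.1)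
  have hyk : y * k * y⁻¹ = k * conjAut Q q (Subgroup.le_normalizer hqQ) := by
    have e1 : y * k * y⁻¹ = k₀ * kf * k₀⁻¹ := by
      rw [← hkfeq]
      simp only [k₀]
      group
    rw [e1, h.trivial_comm hQS hk₀ hkfF hk₀1 hkf1, mul_inv_cancel_right]
    refine NFam.eq_of_autFun fun z hz => ?_
    have eq : autFun (conjAut Q q (Subgroup.le_normalizer hqQ)) z = q * z * q⁻¹ := by
      rw [autFun_apply_mem _ hz, conjAut_apply]
    rw [autFun_mul _ _ hz, autFun_apply_mem kf hz, conjAut_apply, eq,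
      autFun_apply_mem k (Q.mul_mem (Q.mul_mem hqQ hz) (Q.inv_mem hqQ)), conjAut_apply]
    simp only [q]
    group
  -- the translate
  have hcq : conjAut Q q (Subgroup.le_normalizer hqQ) ∈ autInducedBy U Q :=
    conjAut_mem_autInducedBy _ (hQ.1 hqQ)
  have hkS : k ∈ autInducedBy S Q := conjAut_mem_autInducedBy _ hv.1
  set a := y * cu * y⁻¹
  have haS : a ∈ autInducedBy S Q := by
    have h1 := Subgroup.mul_mem _ hyxS (Subgroup.inv_mem _
      (Subgroup.mul_mem _ hkS (autInducedBy_mono (preimageAlong_le _) hcq)))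
    convert h1 using 1
    rw [hxk, show y * (cu * k) * y⁻¹ = a * (y * k * y⁻¹) by simp only [a]; group, hyk]
    group
  have haU : a ∈ autInducedBy U Q := by
    have hm := (isMap_autFun hQS).mpr hyF
    refine NFam.mem_induced_of_transl h.pgroup h.sat hUsc hn ?_ haS
    show NFam.IsTransl F U Q (y * cu * y⁻¹)
    rw [← NFam.congr_aut (β := cu) hm]
    exact (NFam.isTransl_conjAut hUsc.1 hQ.1 hu huN.2).congr hm (img_autFun _)
  have hnorm : k⁻¹ * (cu⁻¹ * a) * k ∈ autInducedBy U Q := by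
    have hb : cu⁻¹ * a ∈ autInducedBy U Q :=
      mul_mem (Subgroup.inv_mem _ (conjAut_mem_autInducedBy _ hu)) haU
    obtain ⟨t, ht, et⟩ := mem_autInducedBy.mp hb
    refine mem_autInducedBy.mpr ⟨v⁻¹ * t * v, ?_, fun z => ?_⟩
    · have := conj_mem_of_mem_normalizer
        (normalizes_of_stronglyClosed hUsc (S.inv_mem hv.1)) ht
      rwa [inv_inv] at this
    · have hvz : v * z * v⁻¹ ∈ Q := conj_mem_of_mem_normalizer hv.2 z.2
      have htz : t * (v * z * v⁻¹) * t⁻¹ ∈ Q :=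
        conj_mem_of_mem_normalizer (NFam.mem_normalizer_of_induced et) hvz
      have hki : ∀ w ∈ Q, autFun k⁻¹ w = v⁻¹ * w * v := fun w hw => by
        have hw' : v⁻¹ * w * v ∈ Q := by
          have := conj_mem_of_mem_normalizer (Subgroup.inv_mem _ hv.2) hw
          rwa [inv_inv] at this
        have h1 : autFun k (v⁻¹ * w * v) = w := by
          rw [autFun_apply_mem k hw', conjAut_apply]; group
        conv_lhs => rw [← h1]
        exact autFun_inv_apply' k hw'
      rw [← autFun_apply, autFun_mul _ _ z.2, autFun_mul _ _ (autFun_mem _ z.2),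
        autFun_apply_mem k z.2, conjAut_apply, autFun_apply_mem _ hvz, et ⟨_, hvz⟩, hki _ htz]
      group
  convert Subgroup.mul_mem _ hnorm hcq using 1
  rw [show y * x * y⁻¹ = a * (y * k * y⁻¹) by simp only [a]; rw [hxk]; group, hyk, hxk]
  group

/-- The family upstairs. -/
theorem pre_family : NFam.Pre F (preimageAlong θ T') p (members Z θ D) (downAut F θ D) := by
  haveI := h.finite_target
  obtain ⟨hwn, -⟩ := id h.normal
  obtain ⟨hDs, hEs, hinv⟩ := id hwn
  have hUS : preimageAlong θ T' ≤ S := preimageAlong_le _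
  refine
    { sc := h.stronglyClosed_pre
      sub := fun Q hQ => hQ.1
      centric := fun Q hQ c hc => ?_
      conj := fun Q hQ R hR => h.members_conj hQ hR
      up := fun Q hQ R hQR hR => ⟨hR, hQ.2.1.trans hQR,
        centric_of_le hQ.2.2 (im_mono hQR) (h.im_le_T' hR)⟩
      top := ⟨le_rfl, h.le_pre, by rw [h.im_pre h.hT']; exact CharSub.centric_top hinv⟩
      le := fun Q hQ β hβ => ((h.mem_downAut hQ).mp hβ).1
      equiv := fun Q R f hf hi hQ β hβ => ?_
      ind := fun Q hQ α hα => ?_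
      res := fun Q R hQ hQR hR β hβ γ e => ?_
      ext := fun Q R hQ hQR hR β hβ hc γ hγ e => ?_
      rad := fun Q hQU hn hQ => ?_
      foc := fun Q hQ hn x hx y hy hxS hyS => h.focal hQ hn hx hy hxS hyS }
  · have hQS := hQ.1.trans hUS
    rw [← h.pre_im hQS hQ.2.1]
    refine mem_preimageAlong.mpr ⟨hUS hc.1, hQ.2.2.2 _ (isConj_refl (h.im_le_T' hQ.1))
      (Fusion.mem_centralizerIn.mpr ⟨(mem_preimageAlong.mp hc.1).2, fun y hy => ?_⟩)⟩
    obtain ⟨x, hx, rfl⟩ := (mem_im hQS).mp hy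
    rw [← qmap_conj (hUS hc.1) (hQS hx), (Fusion.mem_centralizerIn.mp hc).2 x hx]
  · obtain ⟨hβF, g, hg, eg⟩ := (h.mem_downAut hQ).mp hβ
    have hR : R ∈ members Z θ D := h.members_conj hQ (isConj_iff.mpr ⟨f, hf, hi⟩)
    refine (h.mem_downAut hR).mpr ⟨congr_mem_autGroup hf hi hβF, ?_⟩
    subst hi
    obtain ⟨hm, ha, himg⟩ := h.push hf hQ.2.1
    obtain ⟨k, hk, hki, hkl, -⟩ := hm.exists_inv
    have hQS := hQ.1.trans hUS
    have hgm : ∀ y ∈ imageAlong θ Q, g y ∈ imageAlong θ Q := fun y hy => by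
      obtain ⟨x, hx, rfl⟩ := (mem_im hQS).mp hy
      rw [eg x hx]
      exact qmap_mem_im hQS (autFun_mem β hx)
    have h1 := strongInv_of_invariant hinv _ _ le_rfl (h.im_le_T' hQ.1) g hg hgm _ hm
      (fun y => pushMap θ f (g (k y))) fun y hy => by
        show pushMap θ f (g (k (pushMap θ f y))) = _
        rw [hkl y hy]
    rw [himg] at h1
    refine ⟨_, h1, fun w hw => ?_⟩
    obtain ⟨x, hx, rfl⟩ := hf.mem_img.mp hw
    rw [congr_equiv_spec hf rfl β hx, ← ha x hx, ← ha _ (autFun_mem β hx),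
      hkl _ (qmap_mem_im hQS hx), eg x hx]
  · have hQS := hQ.1.trans hUS
    haveI := finite_of_le hQS
    obtain ⟨t, ht, et⟩ := mem_autInducedBy.mp hα
    refine (h.mem_downAut hQ).mpr ⟨autInducedBy_le hQS (autInducedBy_mono hUS hα),
      fun y => qmap θ t * y * (qmap θ t)⁻¹,
      isMap_conj (h.im_le_T' hQ.1) (mem_preimageAlong.mp ht).2, fun x hx => ?_⟩
    show qmap θ t * qmap θ x * (qmap θ t)⁻¹ = _
    rw [autFun_apply_mem _ hx, et, qmap_conj (hUS ht) (hQS hx)]
  · have hRm : R ∈ members Z θ D :=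
      ⟨hR, hQ.2.1.trans hQR, centric_of_le hQ.2.2 (im_mono hQR) (h.im_le_T' hR)⟩
    obtain ⟨hβF, g, hg, eg⟩ := (h.mem_downAut hRm).mp hβ
    refine (h.mem_downAut hQ).mpr ⟨?_, g, hg.mono (im_mono hQR), fun x hx => ?_⟩
    · exact (isMap_autFun (hQ.1.trans hUS)).mp
        ((((isMap_autFun (hR.trans hUS)).mpr hβF).mono hQR).congr fun x hx => e x hx)
    · rw [eg x (hQR hx), e x hx]
  · have hRm : R ∈ members Z θ D :=
      ⟨hR, hQ.2.1.trans hQR, centric_of_le hQ.2.2 (im_mono hQR) (h.im_le_T' hR)⟩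
    have hRS := hR.trans hUS
    haveI := finite_of_le hRS
    set R' := imageAlong θ R
    haveI : Finite R' := finite_of_le h.im_le
    obtain ⟨hm, ha, himg⟩ := h.push ((isMap_autFun hRS).mpr hβ) (hQ.2.1.trans hQR)
    rw [img_autFun] at himg
    obtain ⟨μ, hμ, eμ⟩ := hm.exists_aut himg
    have hpow : ∀ n : ℕ, ∀ x ∈ R, autFun (μ ^ n) (qmap θ x) = qmap θ (autFun (β ^ n) x) := by
      intro n
      induction n with
      | zero => intro x hx; rw [pow_zero, pow_zero, autFun_one hx, autFun_one (qmap_mem_im hRS hx)]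
      | succ n ih =>
        intro x hx
        rw [pow_succ', pow_succ', autFun_mul _ _ hx, autFun_mul _ _ (qmap_mem_im hRS hx), ih x hx,
          eμ _ (qmap_mem_im hRS (autFun_mem _ hx)), ha _ (autFun_mem _ hx)]
    have hμc : (orderOf μ).Coprime p := by
      refine Nat.Coprime.coprime_dvd_left
        (orderOf_dvd_of_pow_eq_one (n := orderOf β) (NFam.eq_of_autFun fun y hy => ?_)) hc
      obtain ⟨x, hx, rfl⟩ := (mem_im hRS).mp hy
      rw [hpow _ x hx, pow_orderOf_eq_one, autFun_one hx, autFun_one hy]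
    obtain ⟨-, g, hg, eg⟩ := (h.mem_downAut hQ).mp hγ
    have hQR' : imageAlong θ Q ≤ R' := im_mono hQR
    have hQS := hQ.1.trans hUS
    have hgm : IsMap D (imageAlong θ Q) (autFun μ) := hg.congr fun y hy => by
      obtain ⟨x, hx, rfl⟩ := (mem_im hQS).mp hy
      rw [eμ _ (qmap_mem_im hRS (hQR hx)), ha x (hQR hx), eg x hx, e x hx]
    have hst : ∀ y ∈ imageAlong θ Q, autFun μ y ∈ imageAlong θ Q := fun y hy => by
      obtain ⟨x, hx, rfl⟩ := (mem_im hQS).mp hy
      rw [eμ _ (qmap_mem_im hRS (hQR hx)), ha x (hQR hx), ← e x hx]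
      exact qmap_mem_im hQS (autFun_mem γ hx)
    have hμD := NExt.mem_of_restrict_centric h.pgroup_target hwn (h.im_le_T' hR) hμ hμc hQ.2.2
      hQR' hst hgm
    refine (h.mem_downAut hRm).mpr ⟨hβ, autFun μ, (isMap_autFun (h.im_le_T' hR)).mpr hμD,
      fun x hx => ?_⟩
    rw [eμ _ (qmap_mem_im hRS hx), ha x hx]
  · have hQS := hQU.trans hUS
    haveI := finite_of_le hQS
    by_cases hZQ : Z ≤ Q
    · have hnc : ¬ D.IsCentric (imageAlong θ Q) := fun hc => hQ ⟨hQU, hZQ, hc⟩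
      simp only [FusionSystem.IsCentric, h.im_le_T' hQU, true_and, not_forall] at hnc
      obtain ⟨R', hR', hCR⟩ := hnc
      obtain ⟨c, hc, hcR⟩ := SetLike.not_le_iff_exists.mp hCR
      set Q' := imageAlong θ Q
      haveI : Finite Q' := finite_of_le h.im_le
      obtain ⟨r, hr, hri⟩ := isConj_iff.mp (isConj_symm hR')
      obtain ⟨-, hfa, hrec⟩ :=
        fullyNormalized_props h.pgroup_target hEs (h.fullyNormalized_im hn hZQ)
      obtain ⟨-, -, k, hk, hki, -, -⟩ :=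
        exists_map_normalizer h.pgroup_target hfa hrec (isMap_of_sub hinv.1 hr) hri
      have hR'S : R' ≤ S' := (isConj_le hR').2.trans h.hT'
      have hcN : c ∈ normalizerIn S' R' := centralizerIn_le_normalizerIn R'
        (Fusion.mem_centralizerIn.mpr ⟨h.hT' hc.1, (Fusion.mem_centralizerIn.mp hc).2⟩)
      have hkc : k c ∈ T' := stronglyClosed_apply hinv.2.1 hk hcN hc.1
      have hkcQ : k c ∉ Q' := fun hmem => by
        change k c ∈ imageAlong θ Q at hmem
        rw [← hki] at hmem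
        obtain ⟨x, hx, e⟩ := (hk.mono (le_normalizerIn hR'S)).mem_img.mp hmem
        exact hcR (hk.injOn (le_normalizerIn hR'S hx) hcN e ▸ hx)
      have hkcC : k c ∈ centralizerIn S' Q' := by
        have := hk.mem_centralizerIn (le_normalizerIn hR'S) hcN
          (Fusion.mem_centralizerIn.mpr ⟨h.hT' hc.1, (Fusion.mem_centralizerIn.mp hc).2⟩)
        rwa [hki] at this
      obtain ⟨g, hg, eg⟩ := exists_preimage (h.quot.range.symm ▸ h.hT') hkc
      have hgS := hUS hg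
      have hgN : g ∈ normalizerIn S Q := h.pre_normalizer hQS hZQ
        (mem_preimageAlong.mpr ⟨hgS, eg ▸ centralizerIn_le_normalizerIn Q' hkcC⟩)
      refine ⟨g, ⟨hg, hgN.2⟩, fun hgQ => hkcQ (eg ▸ qmap_mem_im hQS hgQ), hgN.2, ?_⟩
      let K : Subgroup (MulAut Q) :=
        { carrier := {β | β ∈ F.autGroup Q ∧ ∀ x ∈ Q, qmap θ (autFun β x) = qmap θ x}
          one_mem' := ⟨one_mem _, fun x hx => by rw [autFun_one hx]⟩
          mul_mem' := fun {a b} ha hb => ⟨mul_mem ha.1 hb.1, fun x hx => by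
            rw [autFun_mul _ _ hx, ha.2 _ (autFun_mem b hx), hb.2 x hx]⟩
          inv_mem' := fun {a} ha => ⟨Subgroup.inv_mem _ ha.1, fun x hx => by
            rw [← ha.2 _ (autFun_mem a⁻¹ hx), autFun_inv_apply a hx]⟩ }
      refine Criterion.le_opAut (K := K) (fun β hβ => hβ.1) ?_ (fun α hα β hβ =>
        ⟨mul_mem (mul_mem hα hβ.1) (Subgroup.inv_mem _ hα), fun x hx => ?_⟩)
        ⟨autInducedBy_le hQS (conjAut_mem_autInducedBy _ hgS), fun x hx => ?_⟩
      · intro β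
        obtain ⟨kQ, hkQ⟩ := IsPGroup.iff_card.mp
          (h.pgroup.of_injective _ (Subgroup.inclusion_injective hQS))
        refine ⟨kQ, Subtype.ext ?_⟩
        rw [SubgroupClass.coe_pow, Subgroup.coe_one]
        refine NFam.eq_of_autFun fun x hx => ?_
        have hm := (isMap_autFun hQS).mpr β.2.1
        set z := x⁻¹ * autFun (β : MulAut Q) x
        have hzQ : z ∈ Q := Q.mul_mem (Q.inv_mem hx) (autFun_mem _ hx)
        have hzZ : z ∈ Z := (h.qmap_eq_one (hQS hzQ)).mp (by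
          rw [qmap_mul (S.inv_mem (hQS hx)) (hQS (autFun_mem _ hx)), qmap_inv (hQS hx),
            β.2.2 x hx, inv_mul_cancel])
        have hpow : ∀ i : ℕ, autFun ((β : MulAut Q) ^ i) x = x * z ^ i := by
          intro i
          induction i with
          | zero => rw [pow_zero, autFun_one hx, pow_zero, mul_one]
          | succ i ih =>
            rw [pow_succ', autFun_mul _ _ hx, ih, hm.map_mul hx (Q.pow_mem hzQ i), hm.map_pow hzQ,
              h.fix hm hzZ hzQ, pow_succ', ← mul_assoc]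
            simp only [z]
            group
        have h2 : (⟨z, hzQ⟩ : Q) ^ Nat.card Q = 1 := pow_card_eq_one'
        rw [hpow, ← hkQ, show z ^ Nat.card Q = 1 from congrArg Subtype.val h2, mul_one,
          autFun_one hx]
      · have hαm := (isMap_autFun hQS).mpr hα
        have hx' := autFun_mem α⁻¹ hx
        rw [autFun_mul _ _ hx, autFun_mul _ _ hx']
        refine (h.quot.closed.eq_of_qmap_eq hαm (autFun_mem _ hx') hx' (hβ.2 _ hx')).trans ?_
        rw [autFun_inv_apply α hx]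
      · rw [autFun_apply_mem _ hx, conjAut_apply, qmap_conj hgS (hQS hx), eg]
        exact (Fusion.mem_centralizerIn.mp hkcC).2 _ (qmap_mem_im hQS hx)
    · obtain ⟨z, hz, hzQ⟩ := SetLike.not_le_iff_exists.mp hZQ
      have hzn : z ∈ Subgroup.normalizer (Q : Set Ω) := mem_normalizer_of_maps_finite fun x hx => by
        have := h.comm hz (hQS hx)
        rw [show z * x * z⁻¹ = x by rw [← eq_mul_of_mul_inv_eq this, mul_inv_cancel_right]]
        exact hx
      refine ⟨z, ⟨h.le_pre hz, hzn⟩, hzQ, hzn, ?_⟩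
      have : conjAut Q z hzn = 1 := NFam.eq_of_autFun fun x hx => by
        rw [autFun_apply_mem _ hx, conjAut_apply, autFun_one hx,
          ← eq_mul_of_mul_inv_eq (h.comm hz (hQS hx)), mul_inv_cancel_right]
      rw [this]
      exact one_mem _

/-- The lifted subsystem. -/
theorem exists_lift_normal :
    ∃ A : FusionSystem (preimageAlong θ T'), A.IsWeaklyNormalIn F p ∧
      ∀ (P : Subgroup Ω) (f : Ω → Ω), IsMap A P f → Down θ D P f := by
  have hG := h.pre_family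
  have hX := NFam.fam_genX h.pgroup h.sat hG
  refine ⟨NFam.famSystem hX, NFam.fam_weaklyNormal h.pgroup h.sat hX, fun P f hf => ?_⟩
  have hg := (NFam.isMap_fam_iff hX).mp hf
  clear hf
  induction hg with
  | @base Q P β f hQ hβ hP e =>
    obtain ⟨g, hg, eg⟩ := ((h.mem_downAut hQ).mp (NFam.genX_le hG hQ hβ)).2
    exact ⟨g, hg.mono (im_mono hP), fun x hx => by rw [eg x (hP hx), e x hx]⟩
  | @comp P R f g f' h1 h2 hm e ih1 ih2 =>
    obtain ⟨a, ha, ea⟩ := ih1
    obtain ⟨b, hb, eb⟩ := ih2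
    have hPS : P ≤ S := (h1.isMap hX).2.trans (preimageAlong_le _)
    have hRS : R ≤ S := (h2.isMap hX).2.trans (preimageAlong_le _)
    refine ⟨b ∘ a, ha.comp hb fun y hy => ?_, fun x hx => ?_⟩
    · obtain ⟨x, hx, rfl⟩ := (mem_im hPS).mp hy
      rw [ea x hx]
      exact qmap_mem_im hRS (hm x hx)
    · show b (a (qmap θ x)) = _
      rw [ea x hx, eb _ (hm x hx), e x hx]

end Ctx

end Cfsg.Lib.Fusion.NLift
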