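import Cfsg.Agent.Fusion.NormalFamily.Induced

/-!
Normal families: moving a subgroup of a normalizer to its best position, and automorphisms fixing
a fully normalized member.
-/

set_option autoImplicit false
set_option linter.unusedSectionVars false
set_option linter.style.haveILetI false

namespace Cfsg.Lib.Fusion.NFam

open Cfsg Cfsg.FusionSystem Cfsg.Lib.Fusion

universe u

variable {Ω : Type u} [Group Ω] {S T : Subgroup Ω} {F : FusionSystem S} {p : ℕ}
  {ℋ : Set (Subgroup Ω)} {X : ∀ Q : Subgroup Ω, Subgroup (MulAut Q)} {Q : Subgroup Ω}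

/-- The identity of a member larger than `n` has only the expected labels. -/
def HighId (F : FusionSystem S) (T : Subgroup Ω) (ℋ : Set (Subgroup Ω))
    (X : ∀ Q : Subgroup Ω, Subgroup (MulAut Q)) (n : ℕ) : Prop :=
  ∀ R ∈ ℋ, n < Nat.card R → ∀ α, Lab F T ℋ X R id α → InW F T ℋ X R α

/-- Maps larger than `n`, restricting to the family on `Q`, have labels fixing `Q`. -/
def Settled (F : FusionSystem S) (T : Subgroup Ω) (ℋ : Set (Subgroup Ω))
    (X : ∀ Q : Subgroup Ω, Subgroup (MulAut Q)) (Q : Subgroup Ω) (n : ℕ) : Prop :=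
  ∀ H : Subgroup Ω, n < Nat.card H → Q ≤ H → H ≤ normalizerIn T Q → ∀ g c, Lab F T ℋ X H g c →
    ∀ x ∈ X Q, (∀ z ∈ Q, g z = autFun x z) → InW F T ℋ X Q c

variable [Finite S] [Fact p.Prime]

theorem lt_inf_normalizer (hS : IsPGroup p S) (hX : Fam F T p ℋ X) {H : Subgroup Ω}
    (hH : H ≤ normalizerIn T Q) (hne : H ≠ normalizerIn T Q) :
    Nat.card H < Nat.card (normalizerIn (normalizerIn T Q) H) := by
  haveI := finite_of_le hX.le_S
  haveI hfN : Finite (normalizerIn T Q) := finite_of_le inf_le_left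
  haveI : Finite ↥(T ⊓ Subgroup.normalizer (Q : Set Ω)) := hfN
  haveI : Finite (normalizerIn (normalizerIn T Q) H) :=
    finite_of_le (inf_le_left : normalizerIn (normalizerIn T Q) H ≤ normalizerIn T Q)
  haveI : Finite ↥(normalizerIn (T ⊓ Subgroup.normalizer (Q : Set Ω)) H) :=
    finite_of_le (inf_le_left : normalizerIn (normalizerIn T Q) H ≤ normalizerIn T Q)
  refine lt_of_le_of_ne (Subgroup.card_le_of_le (le_normalizerIn hH)) fun e => ?_
  exact (lt_normalizerIn (hS.of_injective _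
    (Subgroup.inclusion_injective (inf_le_left.trans hX.le_S))) (lt_of_le_of_ne hH hne)).ne
    (Subgroup.eq_of_le_of_card_ge (le_normalizerIn hH) e.ge)

/-- A member moving the automorphisms induced by `H` onto `A'` extends to the normalizer of `H`
after a correction normalizing `A'`. -/
theorem exists_move (hS : IsPGroup p S) (hF : F.IsSaturated p) (hX : Fam F T p ℋ X)
    (hQ : Q ∈ ℋ) (hn : F.IsFullyNormalized Q) {A' : Subgroup (MulAut Q)}
    (V : Sylow p ↥(X Q ⊓ Subgroup.normalizer (A' : Set (MulAut Q))))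
    (hV : ∀ v : ↥(X Q ⊓ Subgroup.normalizer (A' : Set (MulAut Q))), v ∈ V.toSubgroup →
      (v : MulAut Q) ∈ autInducedBy T Q) {H : Subgroup Ω} (hQH : Q ≤ H)
    (hH : H ≤ normalizerIn T Q) {y : MulAut Q} (hy : y ∈ X Q)
    (hyA : (autInducedBy H Q).map (MulAut.conj y).toMonoidHom = A') :
    ∃ g, IsMap F (normalizerIn (normalizerIn T Q) H) g ∧ img H g = pre T A' ∧
      ∃ j ∈ X Q ⊓ Subgroup.normalizer (A' : Set (MulAut Q)),
        ∀ z ∈ Q, g z = autFun (j * y) z := by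
  haveI := finite_of_le hX.le_S
  haveI := finite_of_le (hX.sub Q hQ)
  haveI : Finite (MulAut Q) := NormCent.finite_mulAut Q
  haveI := finite_of_le (hH.trans inf_le_left)
  set H₁ := normalizerIn (normalizerIn T Q) H
  let J : Subgroup (MulAut Q) := X Q ⊓ Subgroup.normalizer (A' : Set (MulAut Q))
  haveI : Finite H₁ := finite_of_le (inf_le_left.trans inf_le_left)
  have hH₁ : H₁ ≤ normalizerIn T Q := inf_le_left
  set B := (autInducedBy H₁ Q).map (MulAut.conj y).toMonoidHom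
  have hBX : B ≤ X Q := by
    rintro _ ⟨b, hb, rfl⟩
    exact mul_mem (mul_mem hy (hX.ind Q hQ (autInducedBy_mono (hH₁.trans inf_le_left) hb)))
      ((X Q).inv_mem hy)
  have hBJ : B ≤ J := by
    refine le_inf hBX ?_
    refine NormCent.le_normalizer_of_conj ?_
    rintro _ ⟨b, hb, rfl⟩ a ha
    rw [← hyA] at ha ⊢
    obtain ⟨a, ha, rfl⟩ := ha
    obtain ⟨t, ht, et⟩ := mem_autInducedBy.mp hb
    obtain ⟨u, hu, eu⟩ := mem_autInducedBy.mp ha
    rw [eq_conjAut (hH₁ ht).2 et, eq_conjAut (hH hu).2 eu]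
    have htu : t * u * t⁻¹ ∈ H := conj_mem_of_mem_normalizer ht.2 hu
    refine ⟨conjAut Q (t * u * t⁻¹) (hH htu).2, conjAut_mem_autInducedBy _ htu, ?_⟩
    rw [conjAut_mem_conj (hH hu).2 (hH₁ ht).2]
    simp [mul_assoc]
  have hBp : IsPGroup p B :=
    ((isPGroup_autInducedBy hS Q).to_le
      (autInducedBy_mono ((hH₁.trans inf_le_left).trans hX.le_S))).map _
  obtain ⟨V', hV'⟩ :=
    (hBp.comap_of_injective J.subtype (Subgroup.subtype_injective J)).exists_le_sylow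
  obtain ⟨j, hj⟩ := MulAction.exists_smul_eq J V' V
  have hjy : ∀ α ∈ autInducedBy H₁ Q,
      (j : MulAut Q) * y * α * ((j : MulAut Q) * y)⁻¹ ∈ autInducedBy T Q := fun α hα => by
    have h1 : y * α * y⁻¹ ∈ B := ⟨α, hα, rfl⟩
    have h2 : j * ⟨_, hBJ h1⟩ * j⁻¹ ∈ ((j • V' : Sylow p J) : Subgroup J) :=
      ⟨⟨_, hBJ h1⟩, hV' h1, rfl⟩
    rw [hj] at h2
    have h3 := hV _ (SetLike.mem_coe.mpr h2)
    simpa [mul_assoc] using h3
  have hQH₁ : Q ≤ H₁ := hQH.trans (le_normalizerIn hH)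
  obtain ⟨g, hg, eg, -⟩ := exists_ext_of hS hF hX hn (hX.le Q hQ (mul_mem j.2.1 hy)) hQH₁ hH₁ hjy
  refine ⟨g, hg, ?_, j, j.2, eg⟩
  have hgH := hg.mono (le_normalizerIn hH)
  rw [img_pre hX hQ hgH hQH hH eg (ext_conjAut hX hgH hQH hH eg)]
  congr 1
  have : MulEquiv.toMonoidHom (MulAut.conj ((j : MulAut Q) * y)) =
      (MulEquiv.toMonoidHom (MulAut.conj (j : MulAut Q))).comp
        (MulEquiv.toMonoidHom (MulAut.conj y)) := by
    refine MonoidHom.ext fun a => ?_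
    simp [mul_assoc]
  rw [this, ← Subgroup.map_map, hyA]
  haveI : Finite A' := Finite.of_injective _ (Subgroup.subtype_injective A')
  refine Subgroup.eq_of_le_of_card_ge ?_ ?_
  · rintro _ ⟨a, ha, rfl⟩
    exact (Subgroup.mem_normalizer_iff.mp j.2.2 a).mp ha
  · exact (Nat.card_congr (Subgroup.equivMapOfInjective A' _
      (MulAut.conj (j : MulAut Q)).injective).toEquiv).le

/-- An automorphism of a subgroup of `N_T(Q)` fixing `Q` has a label fixing `Q`. -/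
theorem inW_of_fix (hS : IsPGroup p S) (hF : F.IsSaturated p) (hX : Fam F T p ℋ X)
    (hQ : Q ∈ ℋ) (hn : F.IsFullyNormalized Q) (hid : HighId F T ℋ X (Nat.card Q))
    {M : Subgroup Ω} (hM : M ≤ normalizerIn T Q) (hQM : Q ≤ M)
    (hQc : Nat.card Q < Nat.card M) (hst : Settled F T ℋ X Q (Nat.card M)) {k : Ω → Ω}
    {c : MulAut T} (hk : Lab F T ℋ X M k c) (hkM : ∀ z ∈ M, k z ∈ M)
    (hkQ : ∀ z ∈ Q, k z = z) : InW F T ℋ X Q c := by
  by_cases hMN : M = normalizerIn T Q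
  · exact ⟨k, hMN ▸ hk, hkQ⟩
  have hQT := hX.sub Q hQ
  have hQS := hQT.trans hX.le_S
  haveI := finite_of_le hX.le_S
  haveI := finite_of_le hQT
  have hMT : M ≤ T := hM.trans inf_le_left
  haveI := finite_of_le hMT
  haveI : Finite (MulAut M) := NormCent.finite_mulAut M
  set R := normalizerIn (normalizerIn T Q) M
  have hcR : Nat.card M < Nat.card R := lt_inf_normalizer hS hX hM hMN
  have hR : R ≤ normalizerIn T Q := inf_le_left
  have hMR : M ≤ R := le_normalizerIn hM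
  have hQR : Q ≤ R := hQM.trans hMR
  haveI : Finite R := finite_of_le (hR.trans inf_le_left)
  obtain ⟨κ, hκ, eκ⟩ := (hk.isMap hX).exists_aut
    (img_eq_of_apply (hk.isMap hX) le_rfl hkM)
  -- the automorphisms fixing `Q`, and those induced by `R`
  let C : Subgroup (MulAut M) :=
    { carrier := {β | β ∈ F.autGroup M ∧ ∀ z ∈ Q, autFun β z = z}
      one_mem' := ⟨one_mem _, fun z hz => autFun_one (hQM hz)⟩
      mul_mem' := fun {a b} ha hb => ⟨mul_mem ha.1 hb.1, fun z hz => by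
        rw [autFun_mul _ _ (hQM hz), hb.2 z hz, ha.2 z hz]⟩
      inv_mem' := fun {a} ha => ⟨(F.autGroup M).inv_mem ha.1, fun z hz => by
        conv_lhs => rw [← ha.2 z hz]
        exact autFun_inv_apply' a (hQM hz)⟩ }
  have hCp : IsPGroup p C := fun β => by
    obtain ⟨k₀, hk₀⟩ : ∃ k₀, Nat.card Q = p ^ k₀ :=
      IsPGroup.iff_card.mp (hS.of_injective _ (Subgroup.inclusion_injective hQS))
    refine ⟨k₀, Subtype.ext (eq_of_autFun fun t ht => ?_)⟩
    have hm : IsMap F M (autFun (β : MulAut M)) :=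
      (isMap_autFun (hMT.trans hX.le_S)).mpr β.2.1
    have hz : t⁻¹ * autFun (β : MulAut M) t ∈ Q := hX.centric Q hQ <|
      Fusion.mem_centralizerIn.mpr ⟨T.mul_mem (T.inv_mem (hMT ht))
        (hMT (autFun_mem _ ht)), fun z hz => by
          have h1 := hm.map_conj ht (hQM hz)
          rw [β.2.2 z hz, β.2.2 _ (conj_mem_of_mem_normalizer (hM ht).2 hz)] at h1
          calc t⁻¹ * autFun (β : MulAut M) t * z * (t⁻¹ * autFun (β : MulAut M) t)⁻¹ =
              t⁻¹ * (autFun (β : MulAut M) t * z * (autFun (β : MulAut M) t)⁻¹) * t := by group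
            _ = z := by rw [← h1]; group⟩
    have hpow : ∀ i : ℕ, autFun ((β : MulAut M) ^ i) t =
        t * (t⁻¹ * autFun (β : MulAut M) t) ^ i := by
      intro i
      induction i with
      | zero => rw [pow_zero, autFun_one ht, pow_zero, mul_one]
      | succ i ih =>
        rw [pow_succ', autFun_mul _ _ ht, ih, hm.map_mul ht (hQM (Q.pow_mem hz i)),
          hm.map_pow (hQM hz), β.2.2 _ hz, pow_succ', ← mul_assoc, ← mul_assoc,
          mul_inv_cancel, one_mul]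
    rw [SubgroupClass.coe_pow, hpow, ← hk₀, Subgroup.coe_one, autFun_one ht]
    have h2 : (⟨_, hz⟩ : Q) ^ Nat.card Q = 1 := pow_card_eq_one'
    rw [show (t⁻¹ * autFun (β : MulAut M) t) ^ Nat.card Q = 1 from congrArg Subtype.val h2,
      mul_one]
  have hnM : ∀ s ∈ R, s ∈ Subgroup.normalizer (M : Set Ω) := fun s hs => hs.2
  set B := autInducedBy R M
  have hBC : B ≤ Subgroup.normalizer (C : Set (MulAut M)) :=
    NormCent.le_normalizer_of_conj fun b hb β hβ => by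
      obtain ⟨s, hs, es⟩ := mem_autInducedBy.mp hb
      have hbF : b ∈ F.autGroup M := autInducedBy_le (hMT.trans hX.le_S)
        (autInducedBy_mono ((hR.trans inf_le_left).trans hX.le_S) hb)
      refine ⟨mul_mem (mul_mem hbF hβ.1) ((F.autGroup M).inv_mem hbF), fun z hz => ?_⟩
      have hzM := hQM hz
      have hb' : autFun b⁻¹ z ∈ Q := by
        have hw : s⁻¹ * z * s⁻¹⁻¹ ∈ Q :=
          conj_mem_of_mem_normalizer ((Subgroup.normalizer (Q : Set Ω)).inv_mem (hR hs).2) hz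
        have h1 : autFun b (s⁻¹ * z * s⁻¹⁻¹) = z := by
          rw [autFun_apply_mem b (hQM hw), es]; group
        rwa [← h1, autFun_inv_apply' b (hQM hw)]
      rw [autFun_mul _ _ hzM, autFun_mul _ _ (autFun_mem _ hzM), hβ.2 _ hb',
        autFun_inv_apply b hzM]
  have hKle : C ⊔ B ≤ F.autGroup M :=
    sup_le (fun β hβ => hβ.1) (fun b hb => autInducedBy_le (hMT.trans hX.le_S)
        (autInducedBy_mono ((hR.trans inf_le_left).trans hX.le_S) hb))
  have hKp : IsPGroup p (C ⊔ B : Subgroup (MulAut M)) := by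
    rw [sup_comm]
    exact ((isPGroup_autInducedBy hS M).to_le
      (autInducedBy_mono ((hR.trans inf_le_left).trans hX.le_S))).to_sup_of_normal_right' hCp hBC
  obtain ⟨M', f, hf, hfi, hrec, hreal⟩ :=
    NormCent.exists_map_realize hF (hMT.trans hX.le_S) hKp hKle
  have hle : R ≤ extSub S M f := fun s hs => by
    obtain ⟨σ, hσ, eσ⟩ := hreal _ (Subgroup.mem_sup_right
      (conjAut_mem_autInducedBy (hnM s hs) hs))
    refine ⟨(hR.trans inf_le_left).trans hX.le_S hs, hnM s hs, σ, hσ, fun x hx => ?_⟩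
    rw [← eσ x hx, autFun_apply_mem _ hx, conjAut_apply]
  obtain ⟨g₁, hg₁, eg₁⟩ := receptive_extend hrec hf hfi
  have hg₁R := hg₁.mono hle
  obtain ⟨σ, hσ, eσ⟩ := hreal κ (Subgroup.mem_sup_left ⟨hκ, fun z hz => by
    rw [eκ z (hQM hz), hkQ z hz]⟩)
  -- move back to `Q`
  have hQ' : F.IsConj (img Q g₁) Q := isConj_symm (isConj_iff.mpr ⟨g₁, hg₁R.mono hQR, rfl⟩)
  obtain ⟨φ₀, hφ₀, hφi⟩ := isConj_iff.mp hQ'
  obtain ⟨-, hfa, hrecQ⟩ := fullyNormalized_props hS hF hn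
  obtain ⟨-, -, φ, hφ, hφQ, -, -⟩ := exists_map_normalizer hS hfa hrecQ hφ₀ hφi
  have hg₁Q : ∀ r ∈ R, g₁ r ∈ normalizerIn S (img Q g₁) := fun r hr =>
    hg₁R.mem_normalizerIn hQR hr (hR hr).2
  have hθm : IsMap F R (φ ∘ g₁) := hg₁R.comp hφ hg₁Q
  set θ := φ ∘ g₁
  have hθQ : ∀ z ∈ Q, θ z ∈ Q := fun z hz => by
    have h1 : φ (g₁ z) ∈ img (img Q g₁) φ := IsMap.apply_mem_img (IsMap.apply_mem_img hz)
    rwa [hφQ] at h1
  have hσQ : σ ∈ normalizerIn S (img Q g₁) ∧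
      ∀ z ∈ Q, σ * g₁ z * σ⁻¹ = g₁ z := by
    have h1 : ∀ z ∈ Q, σ * g₁ z * σ⁻¹ = g₁ z := fun z hz => by
      have h2 := eσ z (hQM hz)
      rwa [eκ z (hQM hz), hkQ z hz, ← eg₁ z (hQM hz), eq_comm] at h2
    haveI : Finite (img Q g₁) := finite_of_le ((hg₁R.mono hQR).img_le)
    refine ⟨⟨hσ, mem_normalizer_of_maps_finite fun w hw => ?_⟩, h1⟩
    obtain ⟨z, hz, rfl⟩ := (hg₁R.mono hQR).mem_img.mp hw
    rw [h1 z hz]
    exact hw
  have hθk : ∀ z ∈ M, θ (k z) = φ σ * θ z * (φ σ)⁻¹ := fun z hz => by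
    show φ (g₁ (k z)) = _
    rw [eg₁ _ (hkM z hz), ← eκ z hz, eσ z hz, ← eg₁ z hz,
      hφ.map_conj hσQ.1 (hg₁Q z (hMR hz))]
    rfl
  -- the conjugation by `φ σ`
  have hs : φ σ ∈ S := hφ.mem_S hσQ.1
  have hsc : ∀ z ∈ Q, φ σ * z * (φ σ)⁻¹ = z := fun z hz => by
    have hi : img Q θ = Q := img_eq_of_apply (hθm.mono hQR) le_rfl hθQ
    obtain ⟨w, hw, rfl⟩ := (hθm.mono hQR).mem_img.mp (hi.symm ▸ hz : z ∈ img Q θ)
    rw [← hθk w (hQM hw), hkQ w hw]
  obtain ⟨τ, hτ, eτ⟩ := (isMap_conj (F := F) hX.le_S hs).exists_aut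
    (img_eq_of_apply (isMap_conj (F := F) hX.le_S hs) le_rfl fun z hz =>
      hX.apply_mem (isMap_conj hX.le_S hs) le_rfl hz)
  have hcT : ∀ {P : Subgroup Ω}, P ≤ T → Lab F T ℋ X P (fun x => φ σ * x * (φ σ)⁻¹) τ :=
    fun hP => (Lab.of_aut hX hP hτ).congr fun x hx => (eτ x (hP hx)).symm
  have hτW : InW F T ℋ X Q τ := ⟨_, hcT inf_le_left, hsc⟩
  -- the label of `θ`
  have hRT : R ≤ T := hR.trans inf_le_left
  obtain ⟨t, ht⟩ := exists_lab hS hF hX hRT hθm
  obtain ⟨μ, hμ, eμ⟩ := (hθm.mono hQR).exists_aut (img_eq_of_apply (hθm.mono hQR) le_rfl hθQ)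
  obtain ⟨x, hx, ν, hν, rfl, hnorm⟩ := exists_split hS hF hX hQ hn hμ
  obtain ⟨h, hh, eh, -⟩ := extend_split hS hF hX.sc hQT hn hν hnorm
  obtain ⟨b, hb⟩ := exists_lab hS hF hX inf_le_left hh
  have hhR := hh.mono hR
  obtain ⟨l, hl, hli, hll, -⟩ := hhR.exists_inv
  have hhQ : ∀ z ∈ Q, h z ∈ Q := fun z hz => eh z hz ▸ autFun_mem ν hz
  have hgl : Lab F T ℋ X (img R h) (θ ∘ l) (t * b⁻¹) :=
    Lab.comp hX ((hb.mono hR).inv hX hll) ht fun z hz => hli ▸ IsMap.apply_mem_img hz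
  have hhi : img Q h = Q := img_eq_of_apply (hhR.mono hQR) le_rfl hhQ
  have he₁ : InW F T ℋ X Q (t * b⁻¹) := by
    refine hst _ ?_ (hhi ▸ img_mono hQR h) (IsMap.img_le_iff.mpr fun z hz =>
      mem_normalizerIn_of hX hh (le_normalizerIn hQT) le_rfl hhQ (hR hz)) _ _ hgl x hx
      fun z hz => ?_
    · rw [hhR.card_img]; exact hcR
    · obtain ⟨w, hw, rfl⟩ := (hhR.mono hQR).mem_img.mp (hhi.symm ▸ hz : z ∈ img Q h)
      show θ (l (h w)) = _
      rw [hll w (hQR hw), ← eμ w hw, autFun_mul _ _ hw, eh w hw]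
  have hw : InW F T ℋ X Q (t⁻¹ * (τ * t)) := by
    have h1 : InW F T ℋ X Q (b⁻¹ * ((t * b⁻¹)⁻¹ * τ * (t * b⁻¹)) * b) :=
      InW.conj hX hQT hb hhQ
        (InW.mul hX hQT (InW.mul hX hQT (InW.inv hX hQT he₁) hτW) he₁)
    convert h1 using 1
    group
  -- the two labels of `k`
  obtain ⟨r, -, -, hrl, -⟩ := hθm.exists_inv
  have hrL := ht.inv hX hrl
  have hkey : Lab F T ℋ X M k (t⁻¹ * (τ * t)) := by
    refine (Lab.comp hX (Lab.comp hX (ht.mono hMR)
      (hcT (P := img R θ) (ht.inv hX hrl |>.le hX)) fun z hz =>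
        IsMap.apply_mem_img (hMR hz)) hrL fun z hz => ?_).congr fun z hz => ?_
    · show φ σ * θ z * (φ σ)⁻¹ ∈ _
      rw [← hθk z hz]
      exact IsMap.apply_mem_img (hMR (hkM z hz))
    · show k z = r (φ σ * θ z * (φ σ)⁻¹)
      rw [← hθk z hz, hrl _ (hMR (hkM z hz))]
  have hu := Lab.unique hX hkey hk
  rw [img_eq_of_apply (hk.isMap hX) le_rfl hkM] at hu
  obtain ⟨e, he, ee⟩ := hid M (hX.up Q hQ M hQM hMT) hQc _ hu
  have hcase : InW F T ℋ X Q (c * (t⁻¹ * (τ * t))⁻¹) :=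
    hst R hcR hQR hR e _ (he.mono fun z hz => (⟨hRT hz, hz.2⟩ : z ∈ normalizerIn T M))
      1 (one_mem _) fun z hz => by rw [ee z (hQM hz), autFun_one hz]
  have := InW.mul hX hQT hcase hw
  rwa [inv_mul_cancel_right] at this

end Cfsg.Lib.Fusion.NFam
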