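import Cfsg.Agent.Fusion.NormalFamily.Move

/-!
Normal families: a map on a subgroup of `N_T(Q)` larger than `Q` restricting to the family has a
label fixing `Q`.
-/

set_option autoImplicit false
set_option linter.unusedSectionVars false
set_option linter.style.haveILetI false

namespace Cfsg.Lib.Fusion.NFam

open Cfsg Cfsg.FusionSystem Cfsg.Lib.Fusion

universe u

variable {Ω : Type u} [Group Ω] {S T : Subgroup Ω} {F : FusionSystem S} {p : ℕ}
  {ℋ : Set (Subgroup Ω)} {X : ∀ Q : Subgroup Ω, Subgroup (MulAut Q)} {Q : Subgroup Ω}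

theorem map_conj_one (A : Subgroup (MulAut Q)) :
    A.map (MulAut.conj (1 : MulAut Q)).toMonoidHom = A := by
  ext a
  simp [Subgroup.mem_map]

theorem map_conj_mul (A : Subgroup (MulAut Q)) (a b : MulAut Q) :
    A.map (MulAut.conj (a * b)).toMonoidHom =
      (A.map (MulAut.conj b).toMonoidHom).map (MulAut.conj a).toMonoidHom := by
  rw [Subgroup.map_map]
  congr 1

theorem map_conj_eq [Finite (MulAut Q)] {A : Subgroup (MulAut Q)} {j : MulAut Q}
    (hj : j ∈ Subgroup.normalizer (A : Set (MulAut Q))) :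
    A.map (MulAut.conj j).toMonoidHom = A := by
  refine Subgroup.eq_of_le_of_card_ge ?_
    (Nat.card_congr (Subgroup.equivMapOfInjective A _ (MulAut.conj j).injective).toEquiv).le
  rintro _ ⟨a, ha, rfl⟩
  exact (Subgroup.mem_normalizer_iff.mp hj a).mp ha

theorem mem_normalizer_of_map_eq [Finite (MulAut Q)] {A : Subgroup (MulAut Q)} {j : MulAut Q}
    (hj : A.map (MulAut.conj j).toMonoidHom = A) :
    j ∈ Subgroup.normalizer (A : Set (MulAut Q)) :=
  mem_normalizer_of_maps_finite fun a ha => hj.le ⟨a, ha, rfl⟩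

variable [Finite S] [Fact p.Prime]

/-- A map on `N_T(Q)` restricting to the family has a label fixing `Q`. -/
theorem inW_of_normalizer (hS : IsPGroup p S) (hF : F.IsSaturated p) (hX : Fam F T p ℋ X)
    (hQ : Q ∈ ℋ) (hn : F.IsFullyNormalized Q) {g : Ω → Ω} {c : MulAut T}
    (hg : Lab F T ℋ X (normalizerIn T Q) g c) {x : MulAut Q} (hx : x ∈ X Q)
    (eg : ∀ z ∈ Q, g z = autFun x z) : InW F T ℋ X Q c := by
  have hQT := hX.sub Q hQ
  haveI := finite_of_le hX.le_S
  haveI := finite_of_le hQT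
  haveI : Finite (MulAut Q) := NormCent.finite_mulAut Q
  haveI : Finite (normalizerIn T Q) := finite_of_le inf_le_left
  set U := autInducedBy T Q
  have hQN := le_normalizerIn hQT
  have hgQ : ∀ z ∈ Q, g z ∈ Q := fun z hz => eg z hz ▸ autFun_mem x hz
  have hgN := img_normalizer hX hQT (hg.isMap hX) hgQ
  have hUx : U.map (MulAut.conj x).toMonoidHom = U := by
    have h1 := autInducedBy_img hX hQ (hg.isMap hX) hQN le_rfl eg
    rw [hgN, autInducedBy_normalizerIn] at h1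
    exact h1.symm
  obtain ⟨d, hd, ed⟩ : ∃ d ∈ X (normalizerIn T Q), ∀ z ∈ Q, autFun d z = autFun x z := by
    obtain ⟨y, -, hyU, V, hV⟩ := exists_best hS hF hX hQ hn (A := U) le_rfl
    have hA' : U.map (MulAut.conj y).toMonoidHom = U :=
      Subgroup.eq_of_le_of_card_ge hyU
        (Nat.card_congr (Subgroup.equivMapOfInjective U _ (MulAut.conj y).injective).toEquiv).le
    refine exists_lift_member hS hF hX hQ hn hQN le_rfl inf_le_left (fun j hj α hα => ?_) V
      (L := normalizerIn T Q) le_rfl (fun l hl => Subgroup.le_normalizer hl)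
      (fun v hv => ?_) ⟨hx, ?_⟩
    · rw [autInducedBy_normalizerIn] at hα ⊢
      have h1 := hj.2
      rw [hA'] at h1
      exact (Subgroup.mem_normalizer_iff.mp h1 α).mp hα
    · rw [autInducedBy_normalizerIn]
      exact hV v hv
    · rw [hA']
      exact mem_normalizer_of_map_eq hUx
  have hdm : IsMap F (normalizerIn T Q) (autFun d) :=
    (isMap_autFun (inf_le_left.trans hX.le_S)).mpr
      (hX.le _ (hX.up Q hQ _ hQN inf_le_left) hd)
  have hd' : Lab F T ℋ X (normalizerIn T Q) (autFun d⁻¹) 1 :=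
    Lab.of_gen hX (.base (hX.up Q hQ _ hQN inf_le_left) ((X _).inv_mem hd) le_rfl fun _ _ => rfl)
  refine ⟨g ∘ autFun d⁻¹, ?_, fun z hz => ?_⟩
  · have := Lab.comp hX hd' hg fun z hz => autFun_mem _ hz
    rwa [mul_one] at this
  · have hxz := autFun_mem x⁻¹ hz
    have h1 : autFun d⁻¹ z = autFun x⁻¹ z := by
      conv_lhs => rw [← autFun_inv_apply x hz, ← ed _ hxz]
      exact autFun_inv_apply' d (hQN hxz)
    show g (autFun d⁻¹ z) = z
    rw [h1, eg _ hxz, autFun_inv_apply x hz]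

/-- Maps on subgroups larger than `Q` which restrict to the family have labels fixing `Q`. -/
theorem settled (hS : IsPGroup p S) (hF : F.IsSaturated p) (hX : Fam F T p ℋ X)
    (hQ : Q ∈ ℋ) (hn : F.IsFullyNormalized Q) (hid : HighId F T ℋ X (Nat.card Q)) :
    Settled F T ℋ X Q (Nat.card Q) := by
  haveI := finite_of_le hX.le_S
  have hQT := hX.sub Q hQ
  haveI := finite_of_le hQT
  haveI : Finite (MulAut Q) := NormCent.finite_mulAut Q
  intro H hc
  induction hm : Nat.card T - Nat.card H using Nat.strong_induction_on generalizing H with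
  | _ m ih =>
  intro hQH hH g c hg x hx eg
  by_cases hHN : H = normalizerIn T Q
  · subst hHN
    exact inW_of_normalizer hS hF hX hQ hn hg hx eg
  have big : Settled F T ℋ X Q (Nat.card H) := fun H' hc' hQH' hH' => by
    have : Nat.card H' ≤ Nat.card T := Subgroup.card_le_of_le (hH'.trans inf_le_left)
    exact ih (Nat.card T - Nat.card H') (by omega) H' (by omega) rfl hQH' hH'
  set N := normalizerIn T Q
  have hgm := hg.isMap hX
  have hgQ : ∀ z ∈ Q, g z ∈ Q := fun z hz => eg z hz ▸ autFun_mem x hz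
  set H₂ := img H g
  have hH₂ : H₂ ≤ N :=
    IsMap.img_le_iff.mpr fun z hz => mem_normalizerIn_of hX hgm hQH hH hgQ hz
  have hcard : Nat.card H₂ = Nat.card H := hgm.card_img
  have hQH₂ : Q ≤ H₂ := by
    have h1 : img Q g = Q := img_eq_of_apply (hgm.mono hQH) le_rfl hgQ
    exact h1 ▸ img_mono hQH g
  have hH₂N : H₂ ≠ N := fun e => hHN (by
    haveI : Finite N := finite_of_le inf_le_left
    exact Subgroup.eq_of_le_of_card_ge hH (by rw [← hcard, e]))
  set A := autInducedBy H Q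
  obtain ⟨y, hy, hyU, V, hV⟩ :=
    exists_best hS hF hX hQ hn (A := A) (autInducedBy_mono (hH.trans inf_le_left))
  generalize hA' : A.map (MulAut.conj y).toMonoidHom = A' at hyU V
  obtain ⟨g₁, hg₁, hi₁, j₁, hj₁, eg₁⟩ := exists_move hS hF hX hQ hn V hV hQH hH hy hA'
  have hA₂ : (autInducedBy H₂ Q).map (MulAut.conj (y * x⁻¹)).toMonoidHom = A' := by
    rw [autInducedBy_img hX hQ hgm hQH hH eg, ← map_conj_mul, inv_mul_cancel_right]
    exact hA'
  obtain ⟨g₂, hg₂, hi₂, j₂, hj₂, eg₂⟩ :=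
    exists_move hS hF hX hQ hn V hV hQH₂ hH₂ (mul_mem hy ((X Q).inv_mem hx)) hA₂
  set M := pre T A'
  have hM : M ≤ N := pre_le
  set R₁ := normalizerIn N H
  set R₂ := normalizerIn N H₂
  have hHR : H ≤ R₁ := le_normalizerIn hH
  have hH₂R : H₂ ≤ R₂ := le_normalizerIn hH₂
  have hR₁T : R₁ ≤ T := inf_le_left.trans inf_le_left
  have hR₂T : R₂ ≤ T := inf_le_left.trans inf_le_left
  obtain ⟨c₁, hc₁⟩ := exists_lab hS hF hX hR₁T hg₁
  obtain ⟨c₂, hc₂⟩ := exists_lab hS hF hX hR₂T hg₂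
  have hlt₁ : Nat.card H < Nat.card R₁ := lt_inf_normalizer hS hX hH hHN
  have hlt₂ : Nat.card H < Nat.card R₂ := hcard ▸ lt_inf_normalizer hS hX hH₂ hH₂N
  have hw₁ : InW F T ℋ X Q c₁ :=
    big R₁ hlt₁ (hQH.trans hHR) inf_le_left g₁ c₁ hc₁ _ (mul_mem hj₁.1 hy) eg₁
  have hw₂ : InW F T ℋ X Q c₂ :=
    big R₂ hlt₂ (hQH₂.trans hH₂R) inf_le_left g₂ c₂ hc₂ _
      (mul_mem hj₂.1 (mul_mem hy ((X Q).inv_mem hx))) eg₂
  obtain ⟨k₁, -, -, hkl, -⟩ := (hg₁.mono hHR).exists_inv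
  have hL₁ := (hc₁.mono hHR).inv hX hkl
  rw [hi₁] at hL₁
  have hkm : ∀ z ∈ M, k₁ z ∈ H := fun z hz => by
    rw [← hi₁] at hz
    obtain ⟨w, hw, rfl⟩ := (hg₁.mono hHR).mem_img.mp hz
    rwa [hkl w hw]
  have hk : Lab F T ℋ X M (g₂ ∘ (g ∘ k₁)) (c₂ * (c * c₁⁻¹)) :=
    Lab.comp hX (Lab.comp hX hL₁ hg hkm) (hc₂.mono hH₂R) fun z hz =>
      IsMap.apply_mem_img (hkm z hz)
  have hkM : ∀ z ∈ M, g₂ (g (k₁ z)) ∈ M := fun z hz =>
    hi₂.le (IsMap.apply_mem_img (IsMap.apply_mem_img (hkm z hz)))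
  have hMT : M ≤ T := hM.trans inf_le_left
  have hQM : Q ≤ M := by
    have h1 : img Q g₁ = Q := img_eq_of_apply (hg₁.mono (hQH.trans hHR)) le_rfl
      fun z hz => eg₁ z hz ▸ autFun_mem _ hz
    rw [← hi₁, ← h1]
    exact img_mono hQH g₁
  have hcM : Nat.card M = Nat.card H := by rw [← hi₁]; exact (hg₁.mono hHR).card_img
  set q := j₂ * j₁⁻¹
  have hq : q ∈ X Q ⊓ Subgroup.normalizer (A' : Set (MulAut Q)) :=
    mul_mem hj₂ (Subgroup.inv_mem _ hj₁)
  have hkq : ∀ z ∈ Q, g₂ (g (k₁ z)) = autFun q z := fun z hz => by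
    set w := autFun (j₁ * y)⁻¹ z
    have hw : w ∈ Q := autFun_mem _ hz
    have h1 : k₁ z = w := by
      conv_lhs => rw [← autFun_inv_apply (j₁ * y) hz, ← eg₁ w hw]
      exact hkl w (hQH hw)
    rw [h1, eg w hw, eg₂ _ (autFun_mem x hw), ← autFun_mul _ _ hw]
    show autFun (j₂ * (y * x⁻¹) * x) (autFun (j₁ * y)⁻¹ z) = _
    rw [← autFun_mul _ _ hz]
    congr 1
    simp only [q]
    group
  obtain ⟨d, hd, ed⟩ : ∃ d ∈ X M, ∀ z ∈ Q, autFun d z = autFun q z := by
    refine exists_lift_member hS hF hX hQ hn hQM hM inf_le_left (fun j hj α hα => ?_) V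
      (L := normalizerIn N M) inf_le_left (fun l hl => hl.2) (fun v hv => ?_) hq
    · rw [autInducedBy_pre hyU] at hα ⊢
      exact (Subgroup.mem_normalizer_iff.mp hj.2 α).mp hα
    · obtain ⟨l, hl, el⟩ := mem_autInducedBy.mp (hV v hv)
      have hln : l ∈ Subgroup.normalizer (Q : Set Ω) := mem_normalizer_of_induced el
      refine mem_autInducedBy.mpr ⟨l, ⟨⟨hl, hln⟩, ?_⟩, el⟩
      haveI : Finite (pre T A') := finite_of_le (pre_le.trans inf_le_left)
      refine le_normalizer_pre ⟨hl, hln⟩ fun a ha => ?_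
      rw [← eq_conjAut hln el]
      exact (Subgroup.mem_normalizer_iff.mp v.2.2 a).mp ha
  have hd' : Lab F T ℋ X M (autFun d⁻¹) 1 :=
    Lab.of_gen hX (.base (hX.up Q hQ M hQM hMT) ((X M).inv_mem hd) le_rfl fun _ _ => rfl)
  have hk₀ := Lab.comp hX hk hd' hkM
  rw [one_mul] at hk₀
  have hW : InW F T ℋ X Q (c₂ * (c * c₁⁻¹)) :=
    inW_of_fix hS hF hX hQ hn hid hM hQM (hcM ▸ hc) (hcM ▸ big) hk₀
      (fun z hz => autFun_mem d⁻¹ (hkM z hz)) fun z hz => by
        show autFun d⁻¹ (g₂ (g (k₁ z))) = z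
        rw [hkq z hz, ← ed z hz, autFun_inv_apply' d (hQM hz)]
  have := InW.mul hX hQT (InW.mul hX hQT (InW.inv hX hQT hw₂) hW) hw₁
  simpa [mul_assoc] using this

end Cfsg.Lib.Fusion.NFam
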